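import Cfsg.Agent.Lib.MaxSub.Extra.SpEight.Std
import Cfsg.Agent.Lib.MaxSub.WreathMaximalSp

/-!
An overgroup of the normaliser of `2^(1+6)` of minus type in `Sp₈` other than the whole group: the centraliser in
it of a non-central involution of the two-group normalises the two-group.
-/

set_option autoImplicit false

namespace CfsgLib.MaxSub.Extra.SpEight

open Matrix Subgroup CfsgLib.MaxSub.SpFive
open scoped commutatorElement

variable {F : Type*} [Field F] [Fintype F]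

local notation "M4" => Matrix (Fin 2 ⊕ Fin 2) (Fin 2 ⊕ Fin 2) F
local notation "M8" => Matrix (Fin 4 ⊕ Fin 4) (Fin 4 ⊕ Fin 4) F
local notation "V8" => (Fin 4 ⊕ Fin 4 → F)
local notation "GL4" => GL (Fin 2 ⊕ Fin 2) F
local notation "GL8" => GL (Fin 4 ⊕ Fin 4) F

/-- A proper overgroup of the normaliser. -/
structure Over (R H : Subgroup (GL (Fin 4 ⊕ Fin 4) F)) : Prop where
  prime : (Fintype.card F).Prime
  ext : Ext R
  le : R ≤ Cfsg.spGL 4 F
  card : Nat.card R = 128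
  low : normalizer (R : Set (GL (Fin 4 ⊕ Fin 4) F)) ⊓ Cfsg.spGL 4 F ≤ H
  high : H ≤ Cfsg.spGL 4 F
  ne : H ≠ Cfsg.spGL 4 F

variable {R H : Subgroup (GL (Fin 4 ⊕ Fin 4) F)}

theorem mem_conj {G : Type*} [Group G] {R : Subgroup G} {g x : G} :
    x ∈ R.map (MulAut.conj g).toMonoidHom ↔ g⁻¹ * x * g ∈ R := by
  rw [Subgroup.mem_map_equiv, MulAut.conj_symm_apply]

theorem mem_conj_norm {G : Type*} [Group G] {R : Subgroup G} {g x : G} :
    x ∈ normalizer (R.map (MulAut.conj g).toMonoidHom : Set G) ↔ g⁻¹ * x * g ∈ normalizer (R : Set G) := by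
  rw [Subgroup.mem_normalizer_iff, Subgroup.mem_normalizer_iff]
  constructor
  · intro h y
    have := h (g * y * g⁻¹)
    rw [mem_conj, mem_conj, show g⁻¹ * (g * y * g⁻¹) * g = y by group] at this
    rw [this]
    exact iff_of_eq (congrArg (· ∈ R) (by group))
  · intro h y
    rw [mem_conj, mem_conj, h (g⁻¹ * y * g)]
    exact iff_of_eq (congrArg (· ∈ R) (by group))

theorem Over.conj (O : Over R H) {g : GL8} (hg : g ∈ Cfsg.spGL 4 F) :
    Over (R.map (MulAut.conj g).toMonoidHom) (H.map (MulAut.conj g).toMonoidHom) := by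
  refine ⟨O.prime, O.ext.conj g, ?_, ?_, fun x hx => ?_, ?_, fun e => O.ne ?_⟩
  · rintro _ ⟨r, hr, rfl⟩
    exact mul_mem (mul_mem hg (O.le hr)) (inv_mem hg)
  · rw [← O.card]
    exact (Nat.card_congr (R.equivMapOfInjective _ (MulAut.conj g).injective).toEquiv).symm
  · have hx2 : g⁻¹ * x * g ∈ Cfsg.spGL 4 F := mul_mem (mul_mem (inv_mem hg) hx.2) hg
    exact mem_conj.2 (O.low (Subgroup.mem_inf.2 ⟨mem_conj_norm.1 hx.1, hx2⟩))
  · rintro _ ⟨r, hr, rfl⟩
    exact mul_mem (mul_mem hg (O.high hr)) (inv_mem hg)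
  · refine le_antisymm O.high fun x hx => ?_
    have h0 : g * x * g⁻¹ ∈ Cfsg.spGL 4 F := mul_mem (mul_mem hg hx) (inv_mem hg)
    have h1 : g * x * g⁻¹ ∈ H.map (MulAut.conj g).toMonoidHom := e.symm ▸ h0
    rwa [mem_conj, show g⁻¹ * (g * x * g⁻¹) * g = x by group] at h1

/-- Transport of a non-central involution to the first standard one. -/
theorem Over.transport (O : Over R H) {z : GL8} (hz : IZ R z) :
    ∃ g ∈ Cfsg.spGL 4 F, g * z * g⁻¹ = Z0 ∧ Std (R.map (MulAut.conj g).toMonoidHom) := by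
  obtain ⟨w, hw, hwz⟩ := O.ext.exists_iz_anti hz.1 hz.2.2
  obtain ⟨g, hg, h1, h2⟩ := exists_std O.ext.two (O.le hz.1) (O.le hw.1) hz.2.1 hw.2.1 hwz
  have O' := O.conj hg
  exact ⟨g, hg, h1, O'.ext, O'.le, O'.card, ⟨z, hz.1, h1⟩, ⟨w, hw.1, h2⟩⟩

theorem plus_back {g z : GL8} {A B : M8} (h : A * plus (g * z * g⁻¹) = B * plus (g * z * g⁻¹)) :
    (g⁻¹ : GL8).1 * A * g.1 * plus z = (g⁻¹ : GL8).1 * B * g.1 * plus z := by
  have ep : g.1 * plus z = plus (g * z * g⁻¹) * g.1 := by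
    simp [plus, Matrix.mul_add, Matrix.add_mul, Matrix.mul_assoc]
  rw [Matrix.mul_assoc _ g.1, ep, ← Matrix.mul_assoc, Matrix.mul_assoc (g⁻¹ : GL8).1 A, h, ← Matrix.mul_assoc,
    Matrix.mul_assoc ((g⁻¹ : GL8).1 * B), ← ep, ← Matrix.mul_assoc]

/-- The elements trivial on one eigenspace lie in the normaliser. -/
theorem Over.root (O : Over R H) {z : GL8} (hz : IZ R z) {g : GL8} (hg : g ∈ R) (hgz : g * z = z * g) :
    ∃ x ∈ normalizer (R : Set GL8), x ∈ Cfsg.spGL 4 F ∧ x * z = z * x ∧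
      x.1 * plus z = g.1 * plus z ∧ x.1 * minus z = minus z := by
  obtain ⟨k, hk, hkz, S⟩ := O.transport hz
  have hcomm : ∀ {a : GL8}, a * z = z * a → k * a * k⁻¹ * Z0 = Z0 * (k * a * k⁻¹) := fun {a} e => by
    rw [← hkz, show k * a * k⁻¹ * (k * z * k⁻¹) = k * (a * z) * k⁻¹ by group, e]
    group
  obtain ⟨x, hxN, hxS, hxz, hu, hv⟩ := S.root (g := k * g * k⁻¹) ⟨g, hg, rfl⟩ (hcomm hgz)
  refine ⟨k⁻¹ * x * k, mem_conj_norm.1 hxN, mul_mem (mul_mem (inv_mem hk) hxS) hk, ?_, ?_, ?_⟩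
  · calc k⁻¹ * x * k * z = k⁻¹ * (x * (k * z * k⁻¹)) * k := by group
      _ = k⁻¹ * ((k * z * k⁻¹) * x) * k := by rw [hkz, hxz]
      _ = _ := by group
  · rw [← hkz] at hu
    have := plus_back hu
    rwa [← Units.val_mul, ← Units.val_mul, ← Units.val_mul, ← Units.val_mul,
      show k⁻¹ * (k * g * k⁻¹) * k = g by group] at this
  · have hv' : x.1 * plus (k * (-z) * k⁻¹) = (1 : M8) * plus (k * (-z) * k⁻¹) := by
      rw [show k * -z * k⁻¹ = -(Z0 : GL8) by rw [mul_neg, neg_mul, hkz], plus_neg, hv, Matrix.one_mul]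
    have := plus_back hv'
    rwa [plus_neg, Matrix.mul_one, Units.inv_mul, Matrix.one_mul, ← Units.val_mul, ← Units.val_mul] at this

theorem sp_normal_top {N : Subgroup (Cfsg.spGL 2 F)} (hN : N.Normal) (hq : 3 ≤ Fintype.card F)
    (hn : ∃ e ∈ N, ∃ y : Cfsg.spGL 2 F, e * y ≠ y * e) : N = ⊤ := by
  set φ := SympSimple.toSpGL (F := F) (m := 2)
  have hφ : Function.Surjective φ := SympSimple.toSpGL_surjective
  suffices h : N.comap φ = ⊤ by
    refine eq_top_iff.2 fun x _ => ?_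
    obtain ⟨x', rfl⟩ := hφ x
    exact Subgroup.mem_comap.1 (h ▸ Subgroup.mem_top x')
  haveI : (N.comap φ).Normal := hN.comap φ
  obtain ⟨e, he, y, hy⟩ := hn
  obtain ⟨e', rfl⟩ := hφ e
  obtain ⟨y', rfl⟩ := hφ y
  haveI hs : IsSimpleGroup (Cfsg.PSp 2 F) := SympSimple.simple le_rfl fun _ => hq
  have hperf : commutator (Matrix.symplecticGroup (Fin 2) F) = ⊤ :=
    SympSimple.perfect_fintype (Or.inr (Or.inl ⟨rfl, hq⟩))
  set Z := Subgroup.center (Matrix.symplecticGroup (Fin 2) F) with hZ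
  have hsup : N.comap φ ⊔ Z = ⊤ := by
    have hnormal : ((N.comap φ).map (QuotientGroup.mk' Z)).Normal :=
      Normal.map inferInstance _ (QuotientGroup.mk'_surjective Z)
    rcases hs.eq_bot_or_eq_top_of_normal _ hnormal with h | h
    · exfalso
      have hmem : QuotientGroup.mk' Z e' ∈ (N.comap φ).map (QuotientGroup.mk' Z) := Subgroup.mem_map_of_mem _ he
      erw [h, Subgroup.mem_bot] at hmem
      have := (QuotientGroup.eq_one_iff e').1 hmem
      exact hy (by rw [← map_mul, ← map_mul, Subgroup.mem_center_iff.1 this y'])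
    · refine eq_top_iff.2 fun x _ => ?_
      have hmem : QuotientGroup.mk' Z x ∈ (N.comap φ).map (QuotientGroup.mk' Z) := by erw [h]; exact Subgroup.mem_top _
      obtain ⟨n, hn, e⟩ := Subgroup.mem_map.1 hmem
      rw [show x = n * (n⁻¹ * x) by group]
      exact mul_mem (Subgroup.mem_sup_left hn) (Subgroup.mem_sup_right (QuotientGroup.eq.1 e))
  refine eq_top_iff.2 (hperf ▸ ?_)
  rw [_root_.commutator_def, Subgroup.commutator_le]
  intro a _ b _
  have ha : a ∈ N.comap φ ⊔ Z := hsup ▸ Subgroup.mem_top a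
  have hb : b ∈ N.comap φ ⊔ Z := hsup ▸ Subgroup.mem_top b
  obtain ⟨n, hn, c, hc, rfl⟩ := Subgroup.mem_sup_of_normal_left.1 ha
  obtain ⟨m, hm, d, hd, rfl⟩ := Subgroup.mem_sup_of_normal_left.1 hb
  have hc' : ∀ w, w * c = c * w := Subgroup.mem_center_iff.1 hc
  have hd' : ∀ w, w * d = d * w := Subgroup.mem_center_iff.1 hd
  have e : ⁅n * c, m * d⁆ = n * m * n⁻¹ * m⁻¹ := by
    rw [commutatorElement_def]
    calc n * c * (m * d) * (n * c)⁻¹ * (m * d)⁻¹ = n * (c * (m * d)) * c⁻¹ * n⁻¹ * d⁻¹ * m⁻¹ := by group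
      _ = n * (m * d) * n⁻¹ * d⁻¹ * m⁻¹ := by rw [← hc' (m * d)]; group
      _ = n * m * (d * n⁻¹) * d⁻¹ * m⁻¹ := by group
      _ = _ := by rw [← hd' n⁻¹]; group
  rw [e]
  exact mul_mem (mul_mem (mul_mem hn hm) (inv_mem hn)) (inv_mem hm)

/-- The full block group with the swap is contained in no proper overgroup. -/
theorem no_blocks (O : Over R H) (S : Std R) (hblk : ∀ a ∈ Cfsg.spGL 2 F, emb (a, (1 : GL4)) ∈ H) : False := by
  classical
  have h2 := S.two
  have hsH : swp ∈ H := O.low ⟨le_normalizer S.hs, swp_mem⟩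
  have hall : ∀ a ∈ Cfsg.spGL 2 F, ∀ b ∈ Cfsg.spGL 2 F, emb (a, b) ∈ H := fun a ha b hb => by
    have h1 := mul_mem (hblk a ha) (mul_mem (mul_mem hsH (hblk b hb)) (inv_mem hsH))
    rwa [swp_emb, mul_inv_cancel_right, emb_mul, mul_one, one_mul] at h1
  let W : Submodule F V8 := LinearMap.eqLocus (Matrix.toLin' (Z0 : GL8).1) LinearMap.id
  let W' : Submodule F V8 := LinearMap.eqLocus (Matrix.toLin' (Z0 : GL8).1) (-LinearMap.id)
  have mW : ∀ {x}, x ∈ W ↔ (Z0 : GL8).1 *ᵥ x = x := fun {x} => Iff.rfl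
  have mW' : ∀ {x}, x ∈ W' ↔ (Z0 : GL8).1 *ᵥ x = -x := fun {x} => Iff.rfl
  have hzz : (Z0 : GL8).1 * (Z0 : GL8).1 = 1 := congrArg Units.val Z0_sq
  have hss : (swp : GL8).1 * (swp : GL8).1 = 1 := congrArg Units.val swp_sq
  have hzs : (Z0 : GL8).1 * (swp : GL8).1 = -((swp : GL8).1 * (Z0 : GL8).1) := by
    rw [← Units.val_mul, ← Units.val_mul, swp_Z0, Units.val_neg, neg_neg]
  have hdis : W ⊓ W' = ⊥ := (Submodule.eq_bot_iff _).2 fun x ⟨h, h'⟩ => by
    have e : x = -x := (mW.1 h).symm.trans (mW'.1 h')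
    exact (smul_eq_zero.1 (show (2 : F) • x = 0 by rw [two_smul]; exact add_eq_zero_iff_eq_neg.2 e)).resolve_left h2
  have hsup : W ⊔ W' = ⊤ := eq_top_iff.2 fun x _ => by
    rw [show x = (2 : F)⁻¹ • (x + (Z0 : GL8).1 *ᵥ x) + (2 : F)⁻¹ • (x - (Z0 : GL8).1 *ᵥ x) by
      rw [← smul_add, add_add_sub_cancel, ← two_smul F, inv_smul_smul₀ h2]]
    refine Submodule.add_mem_sup (W.smul_mem _ (mW.2 ?_)) (W'.smul_mem _ (mW'.2 ?_))
    · rw [Matrix.mulVec_add, Matrix.mulVec_mulVec, hzz, Matrix.one_mulVec, add_comm]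
    · rw [Matrix.mulVec_sub, Matrix.mulVec_mulVec, hzz, Matrix.one_mulVec, neg_sub]
  have sW : ∀ {x}, x ∈ W → (swp : GL8).1 *ᵥ x ∈ W' := fun {x} hx => mW'.2 (by
    rw [Matrix.mulVec_mulVec, hzs, Matrix.neg_mulVec, ← Matrix.mulVec_mulVec, mW.1 hx])
  have sW' : ∀ {x}, x ∈ W' → (swp : GL8).1 *ᵥ x ∈ W := fun {x} hx => mW.2 (by
    rw [Matrix.mulVec_mulVec, hzs, Matrix.neg_mulVec, ← Matrix.mulVec_mulVec, mW'.1 hx, Matrix.mulVec_neg, neg_neg])
  have sinv : ∀ x, (swp : GL8).1 *ᵥ ((swp : GL8).1 *ᵥ x) = x := fun x => by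
    rw [Matrix.mulVec_mulVec, hss, Matrix.one_mulVec]
  have hrk : Module.finrank F W = 4 ∧ Module.finrank F W' = 4 := by
    have h1 := Submodule.finrank_sup_add_finrank_inf_eq W W'
    rw [hsup, hdis, finrank_top, finrank_bot, add_zero] at h1
    let e : W ≃ₗ[F] W' :=
      { toFun := fun x => ⟨(swp : GL8).1 *ᵥ x.1, sW x.2⟩
        invFun := fun x => ⟨(swp : GL8).1 *ᵥ x.1, sW' x.2⟩
        left_inv := fun x => Subtype.ext (sinv x.1)
        right_inv := fun x => Subtype.ext (sinv x.1)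
        map_add' := fun x y => Subtype.ext (by simp [Matrix.mulVec_add])
        map_smul' := fun c x => Subtype.ext (by simp [Matrix.mulVec_smul]) }
    have h3 := e.finrank_eq
    have h4 : Module.finrank F V8 = 8 := by simp
    omega
  have horth : ∀ a ∈ W, ∀ b ∈ W', Cfsg.sympForm 4 F a b = 0 ∧ Cfsg.sympForm 4 F b a = 0 := fun a ha b hb => by
    have hB : ∀ u v, SympGen.B ((Z0 : GL8).1 *ᵥ u) ((Z0 : GL8).1 *ᵥ v) = SympGen.B u v := fun u v => Z0_mem u v
    have e := hB a b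
    rw [mW.1 ha, mW'.1 hb, show -b = (-1 : F) • b by rw [neg_one_smul], SympGen.B_smul_right] at e
    have h0 : SympGen.B a b = 0 :=
      (mul_eq_zero.1 (show (2 : F) * SympGen.B a b = 0 by linear_combination -e)).resolve_left h2
    exact ⟨h0, show SympGen.B b a = 0 by rw [SympGen.B_swap, h0, neg_zero]⟩
  have hnd : ∀ {U U' : Submodule F V8}, U ⊔ U' = ⊤ →
      (∀ a ∈ U, ∀ b ∈ U', Cfsg.sympForm 4 F a b = 0 ∧ Cfsg.sympForm 4 F b a = 0) →
      Cfsg.Geo.IsNondegenerateOn (Cfsg.sympForm 4 F) U := fun {U U'} hUU ho w hw hw0 => by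
    obtain ⟨y, hy, -⟩ := SympSimple.exists_both hw0 hw0
    obtain ⟨a, ha, b, hb, rfl⟩ := Submodule.mem_sup.1 (hUU ▸ Submodule.mem_top : y ∈ U ⊔ U')
    have hy' : SympGen.B a w ≠ 0 := fun e => hy (by
      rw [SympGen.B_add_left, e, show SympGen.B b w = 0 from (ho w hw b hb).2, add_zero])
    exact ⟨⟨a, ha, hy'⟩, ⟨a, ha, fun e => hy' (by
      rw [SympGen.B_swap, show SympGen.B w a = 0 from e, neg_zero])⟩⟩
  let D : Fin 2 → Submodule F V8 := ![W, W']
  have hD : Cfsg.Geo.IsNondegenerateMDecomposition (Cfsg.sympForm 4 F) 4 D := by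
    refine ⟨⟨le_rfl, by norm_num, fun i => ?_, ?_, ?_⟩, fun i => ?_, fun i j hij => ?_⟩
    · fin_cases i
      exacts [hrk.1, hrk.2]
    · rw [iSupIndep_pair (i := (0 : Fin 2)) (j := 1) (by decide) (fun i => by fin_cases i <;> simp)]
      exact disjoint_iff.2 hdis
    · rw [eq_top_iff, ← hsup]
      exact sup_le (le_iSup D 0) (le_iSup D 1)
    · fin_cases i
      · exact hnd hsup horth
      · exact hnd (sup_comm W W' ▸ hsup) fun a ha b hb => (horth b hb a ha).symm
    · fin_cases i <;> fin_cases j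
      exacts [absurd rfl hij, fun a ha b hb => (horth a ha b hb).1, fun a ha b hb => (horth b hb a ha).2,
        absurd rfl hij]
  have hstab : ∀ g ∈ Cfsg.Geo.decompositionStabilizer D, g * Z0 = Z0 * g ∨ g * Z0 = -(Z0 * g) := fun g hg => by
    obtain ⟨σ, hσ⟩ := hg
    have ext : ∀ {A B : M8}, (∀ a ∈ W, A *ᵥ a = B *ᵥ a) → (∀ b ∈ W', A *ᵥ b = B *ᵥ b) → A = B := fun {A B} h1 h2 =>
      Matrix.toLin'.injective (LinearMap.ext fun v => by
        obtain ⟨a, ha, b, hb, rfl⟩ := Submodule.mem_sup.1 (hsup ▸ Submodule.mem_top : v ∈ W ⊔ W')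
        rw [Matrix.toLin'_apply, Matrix.toLin'_apply, Matrix.mulVec_add, Matrix.mulVec_add, h1 a ha, h2 b hb])
    have himg : ∀ i {a}, a ∈ D i → g.1 *ᵥ a ∈ D (σ i) := fun i a ha => hσ i ▸ Submodule.mem_map_of_mem ha
    rcases eq_or_ne (σ 0) 0 with h0 | h0
    · have h1 : σ 1 = 1 := by
        have : σ 1 ≠ 0 := fun e => by simpa using σ.injective (e.trans h0.symm)
        omega
      refine Or.inl (Units.ext (ext (fun a ha => ?_) fun b hb => ?_))
      · have := himg 0 ha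
        rw [h0] at this
        rw [Units.val_mul, Units.val_mul, ← Matrix.mulVec_mulVec, ← Matrix.mulVec_mulVec, mW.1 ha, mW.1 this]
      · have := himg 1 hb
        rw [h1] at this
        rw [Units.val_mul, Units.val_mul, ← Matrix.mulVec_mulVec, ← Matrix.mulVec_mulVec, mW'.1 hb, mW'.1 this,
          Matrix.mulVec_neg]
    · have h01 : σ 0 = 1 := by omega
      have h1 : σ 1 = 0 := by
        have : σ 1 ≠ 1 := fun e => by simpa using σ.injective (e.trans h01.symm)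
        omega
      refine Or.inr (Units.ext (ext (fun a ha => ?_) fun b hb => ?_))
      · have := himg 0 ha
        rw [h01] at this
        rw [Units.val_mul, Units.val_neg, Units.val_mul, Matrix.neg_mulVec, ← Matrix.mulVec_mulVec,
          ← Matrix.mulVec_mulVec, mW.1 ha, mW'.1 this, neg_neg]
      · have := himg 1 hb
        rw [h1] at this
        rw [Units.val_mul, Units.val_neg, Units.val_mul, Matrix.neg_mulVec, ← Matrix.mulVec_mulVec,
          ← Matrix.mulVec_mulVec, mW'.1 hb, mW.1 this, Matrix.mulVec_neg]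
  have hle : Cfsg.Geo.decompositionStabilizer D ⊓ Cfsg.spGL 4 F ≤ H := fun g hg => by
    have key : ∀ k : GL8, k ∈ Cfsg.spGL 4 F → k * Z0 = Z0 * k → k ∈ H := fun k hk hkz => by
      obtain ⟨a, b, rfl⟩ := comm_Z0 h2 hkz
      exact hall a (emb_mem_iff.1 hk).1 b (emb_mem_iff.1 hk).2
    rcases hstab g hg.1 with e | e
    · exact key g hg.2 e
    · have := key (g * swp) (mul_mem hg.2 swp_mem) (by
        rw [mul_assoc, swp_Z0, mul_neg, ← mul_assoc, e, neg_mul, neg_neg, mul_assoc])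
      have h1 := mul_mem this hsH
      rwa [mul_assoc, swp_sq, mul_one] at h1
  have hmax := CfsgLib.MaxSub.sp_wreath_maximal (by norm_num) hD (fun h => by norm_num at h)
  obtain ⟨f⟩ := S.exists_frame
  have hiz : IZ R swp := ⟨S.hs, swp_sq, fun e => by
    have := swp_Z0 (F := F)
    rcases e with e | e <;> rw [e] at this <;> simp at this <;>
      exact absurd this (by first | exact S.ext.ne_neg _ | exact (S.ext.ne_neg _).symm)⟩
  obtain ⟨x, hxN, hxS, -, hu, hv⟩ := O.root hiz (mem_side.1 f.ha) (swp_emb f.a f.a).symm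
  have hxH : x ∈ H := O.low ⟨hxN, hxS⟩
  rcases hmax.2 H hle O.high with e | e
  · have hx' := hstab x ((e ▸ hxH : x ∈ _) : x ∈ Cfsg.Geo.decompositionStabilizer D ⊓ Cfsg.spGL 4 F).1
    have h2x : (2 : F) • x.1 = big (f.a.1 + 1) (f.a.1 - 1) (f.a.1 - 1) (f.a.1 + 1) := by
      calc (2 : F) • x.1 = x.1 * (plus swp + minus swp) := by
            rw [show plus (swp : GL8) + minus swp = (2 : F) • (1 : M8) by rw [plus, minus, two_smul]; abel,
              Matrix.mul_smul, Matrix.mul_one]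
        _ = _ := by
            rw [Matrix.mul_add, hu, hv, plus_swp, minus_swp, emb_val, big_mul, big_add]
            simp [sub_eq_add_neg]
    have nsd : ∀ c : F, f.a.1 ≠ c • (1 : M4) := fun c e => by
      have h1 : f.b.1 * f.a.1 = -(f.a.1 * f.b.1) := congrArg Units.val f.ba
      rw [e, Matrix.mul_smul, Matrix.mul_one, Matrix.smul_mul, Matrix.one_mul] at h1
      have h2' : ((2 : F) * c) • f.b.1 = 0 := by rw [mul_smul, two_smul]; exact add_eq_zero_iff_eq_neg.2 h1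
      have hc := (mul_eq_zero.1 ((smul_eq_zero.1 h2').resolve_right f.b.ne_zero)).resolve_left h2
      rw [hc, zero_smul] at e
      exact f.a.ne_zero e
    rcases hx' with e' | e'
    · have := show ((2 : F) • x.1) * (Z0 : GL8).1 = (Z0 : GL8).1 * ((2 : F) • x.1) by
        rw [Matrix.smul_mul, Matrix.mul_smul, ← Units.val_mul, e', Units.val_mul]
      simp only [h2x, Z0_val, big_mul, big_inj, Matrix.mul_neg,
        Matrix.neg_mul, Matrix.mul_one, Matrix.one_mul, Matrix.mul_zero, Matrix.zero_mul, add_zero, zero_add] at this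
      refine nsd 1 ?_
      have h0 : (2 : F) • (f.a.1 - 1) = 0 := by rw [two_smul]; nth_rw 2 [← this.2.1]; exact add_neg_cancel _
      rw [one_smul]
      exact sub_eq_zero.1 ((smul_eq_zero.1 h0).resolve_left h2)
    · have := show ((2 : F) • x.1) * (Z0 : GL8).1 = -((Z0 : GL8).1 * ((2 : F) • x.1)) by
        rw [Matrix.smul_mul, Matrix.mul_smul, ← Units.val_mul, e', Units.val_neg, Units.val_mul, smul_neg]
      simp only [h2x, Z0_val, big_mul,
        big_neg, big_inj, Matrix.mul_neg, Matrix.neg_mul, Matrix.mul_one, Matrix.one_mul, Matrix.mul_zero,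
        Matrix.zero_mul, add_zero, zero_add] at this
      refine nsd (-1) ?_
      have h0 : (2 : F) • (f.a.1 + 1) = 0 := by rw [two_smul]; nth_rw 2 [this.1]; exact add_neg_cancel _
      rw [neg_one_smul]
      exact eq_neg_of_add_eq_zero_left ((smul_eq_zero.1 h0).resolve_left h2)
  · exact O.ne e

theorem q3 (O : Over R H) : 3 ≤ Fintype.card F := by
  have h1 := Fintype.one_lt_card (α := F)
  by_contra h
  have h3 : (Fintype.card F : F) = 0 := FiniteField.cast_card_eq_zero F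
  rw [show Fintype.card F = 2 by omega] at h3
  exact O.ext.two (by exact_mod_cast h3)

/-- The blocks of an element centralising `Z0` normalise the two-group of their block. -/
theorem Over.blocks (O : Over R H) (S : Std R) {x t : GL4} (h : emb (x, t) ∈ H) :
    x ∈ normalizer (side R : Set GL4) := by
  let X1 : Subgroup GL4 := (H.comap emb).map (MonoidHom.fst GL4 GL4)
  have memX : ∀ {a}, a ∈ X1 ↔ ∃ b, emb (a, b) ∈ H := fun {a} => by
    simp [X1, Subgroup.mem_map]
  have hX1 : X1 ≤ Cfsg.spGL 2 F := fun a ha => by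
    obtain ⟨b, hb⟩ := memX.1 ha
    exact (emb_mem_iff.1 (O.high hb)).1
  have hN : Cfsg.Geo.subgroupNormalizer (side R) ⊓ Cfsg.spGL 2 F ≤ X1 := fun a ha =>
    memX.2 ⟨a, O.low ⟨S.diag_norm ha.1, emb_mem_iff.2 ⟨ha.2, ha.2⟩⟩⟩
  rcases (SpFive.pauli_maximal_sys O.prime (side R) S.sys S.side_le S.side_minus).2 X1 hN hX1 with e | e
  · exact ((e ▸ memX.2 ⟨t, h⟩ : x ∈ Cfsg.Geo.subgroupNormalizer (side R) ⊓ Cfsg.spGL 2 F)).1
  exfalso
  refine no_blocks O S fun a ha => ?_
  let K : Subgroup (Cfsg.spGL 2 F) :=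
    H.comap ((emb.comp (MonoidHom.inl GL4 GL4)).comp (Cfsg.spGL 2 F).subtype)
  have hK : K.Normal := ⟨fun k hk g => by
    obtain ⟨b, hb⟩ := memX.1 (e.ge g.2 : g.1 ∈ X1)
    show emb (((g * k * g⁻¹ : Cfsg.spGL 2 F) : GL4), (1 : GL4)) ∈ H
    have := mul_mem (mul_mem hb (show emb (k.1, (1 : GL4)) ∈ H from hk)) (inv_mem hb)
    rwa [emb_mul, emb_inv, emb_mul, mul_one, mul_inv_cancel] at this⟩
  obtain ⟨f⟩ := S.exists_frame
  obtain ⟨r, hrN, hrS, hrz, hu, hv⟩ := S.root (mem_side.1 f.ha) (emb_comm_Z0 _ _)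
  obtain ⟨c, d, rfl⟩ := comm_Z0 S.two hrz
  have hr' : c = f.a ∧ d = 1 := by
    rw [plus_Z0, emb_val, emb_val, big_mul, big_mul, big_inj] at hu
    rw [minus_Z0, emb_val, big_mul, big_inj] at hv
    simp only [Matrix.mul_smul, Matrix.mul_one, Matrix.mul_zero, add_zero, zero_add] at hu hv
    exact ⟨Units.ext (smul_right_injective _ S.two hu.1), Units.ext (smul_right_injective _ S.two hv.2.2.2)⟩
  rw [hr'.1, hr'.2] at hrN hrS
  have htop := sp_normal_top hK (q3 O) ⟨⟨f.a, S.side_le f.ha⟩, O.low ⟨hrN, hrS⟩, ⟨f.b, S.side_le f.hb⟩,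
    fun e' => S.ne_neg4 (f.a * f.b) (by
      have e2 : f.a * f.b = f.b * f.a := congrArg Subtype.val e'
      rw [f.ba] at e2
      exact e2)⟩
  exact (htop.ge (Subgroup.mem_top (⟨a, ha⟩ : Cfsg.spGL 2 F)) : _ ∈ K)

/-- Conjugation by an element centralising `z` agrees with the group on the fixed space of `z`. -/
theorem Over.proj (O : Over R H) {z h c : GL8} (hz : IZ R z) (hh : h ∈ H) (hhz : h * z = z * h) (hc : c ∈ R)
    (hcz : c * z = z * c) : ∃ d ∈ R, d * z = z * d ∧ Ag z (h * c * h⁻¹) d := by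
  obtain ⟨k, hk, hkz, S⟩ := O.transport hz
  have hcomm : ∀ {a : GL8}, a * z = z * a → k * a * k⁻¹ * Z0 = Z0 * (k * a * k⁻¹) := fun {a} e => by
    rw [← hkz, show k * a * k⁻¹ * (k * z * k⁻¹) = k * (a * z) * k⁻¹ by group, e]
    group
  obtain ⟨x, t, hxt⟩ := comm_Z0 S.two (hcomm hhz)
  obtain ⟨e, he, hce⟩ := S.cent_cases (r := k * c * k⁻¹) ⟨c, hc, rfl⟩ (hcomm hcz)
  have hxN := (O.conj hk).blocks S (x := x) (t := t) (hxt ▸ ⟨h, hh, rfl⟩)
  have he' : x * e * x⁻¹ ∈ side _ := (Subgroup.mem_normalizer_iff.1 hxN e).1 he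
  refine ⟨k⁻¹ * emb (x * e * x⁻¹, x * e * x⁻¹) * k, mem_conj.1 (mem_side.1 he'), ?_, ?_⟩
  · calc k⁻¹ * emb (x * e * x⁻¹, x * e * x⁻¹) * k * z
        = k⁻¹ * (emb (x * e * x⁻¹, x * e * x⁻¹) * (k * z * k⁻¹)) * k := by group
      _ = k⁻¹ * ((k * z * k⁻¹) * emb (x * e * x⁻¹, x * e * x⁻¹)) * k := by rw [hkz, emb_comm_Z0]
      _ = _ := by group
  · have e0 : (k * (h * c * h⁻¹) * k⁻¹).1 * plus (k * z * k⁻¹) =
        (emb (x * e * x⁻¹, x * e * x⁻¹)).1 * plus (k * z * k⁻¹) := by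
      rw [hkz, show k * (h * c * h⁻¹) * k⁻¹ = (k * h * k⁻¹) * (k * c * k⁻¹) * (k * h * k⁻¹)⁻¹ by group, hxt,
        plus_Z0]
      rcases hce with e' | e' <;> rw [e', emb_inv, emb_mul, emb_mul, emb_val, emb_val, big_mul, big_mul] <;>
        simp
    have := plus_back e0
    unfold Ag
    rwa [← Units.val_mul, ← Units.val_mul, ← Units.val_mul, ← Units.val_mul,
      show k⁻¹ * (k * (h * c * h⁻¹) * k⁻¹) * k = h * c * h⁻¹ by group] at this

theorem cube_plus {z y e : GL4} (hy : y ^ 3 = 1) (he : e ^ 4 = 1) (hez : e * z = z * e) (h : Ag z y e) :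
    Ag z y 1 := by
  have hpow : ∀ n, Ag z (y ^ n) (e ^ n) := fun n => by
    induction n with
    | zero => simpa using (Ag.refl (1 : GL4) : Ag z 1 1)
    | succ n ih => rw [pow_succ, pow_succ]; exact ih.mul h hez
  have h12 := hpow 4
  rwa [pow_succ, hy, one_mul, he] at h12

/-- The kernel of the projection to the second block is the two-group of the first. -/
theorem Over.kernel (O : Over R H) (S : Std R) {y : GL4} (hy : emb (y, (1 : GL4)) ∈ H) : y ∈ side R := by
  obtain ⟨f⟩ := S.exists_frame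
  have hh := S.sys
  have hE := S.side_le
  have hnorm : ∀ {k}, emb (k, (1 : GL4)) ∈ H → k ∈ normalizer (side R : Set GL4) := fun hk => O.blocks S hk
  have hsp : ∀ {k}, emb (k, (1 : GL4)) ∈ H → k ∈ Cfsg.spGL 2 F := fun hk => (emb_mem_iff.1 (O.high hk)).1
  have hprod : ∀ {k l}, emb (k, (1 : GL4)) ∈ H → emb (l, (1 : GL4)) ∈ H → emb (k * l, (1 : GL4)) ∈ H :=
    fun {k l} hk hl => by have := mul_mem hk hl; rwa [emb_mul, mul_one] at this
  have hinv : ∀ {k}, emb (k, (1 : GL4)) ∈ H → emb (k⁻¹, (1 : GL4)) ∈ H :=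
    fun {k} hk => by have := inv_mem hk; rwa [emb_inv, inv_one] at this
  have hsideH : ∀ {e}, e ∈ side R → emb (e, (1 : GL4)) ∈ H := fun {e} he => by
    obtain ⟨x, hxN, hxS, hxz, hu, hv⟩ := S.root (mem_side.1 he) (emb_comm_Z0 _ _)
    obtain ⟨c, d, rfl⟩ := comm_Z0 S.two hxz
    rw [plus_Z0, emb_val, emb_val, big_mul, big_mul, big_inj] at hu
    rw [minus_Z0, emb_val, big_mul, big_inj] at hv
    simp only [Matrix.mul_smul, Matrix.mul_one, Matrix.mul_zero, add_zero, zero_add] at hu hv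
    rw [show e = c from (Units.ext (smul_right_injective _ S.two hu.1)).symm,
      show (1 : GL4) = d from (Units.ext (smul_right_injective _ S.two hv.2.2.2)).symm]
    exact O.low ⟨hxN, hxS⟩
  obtain ⟨π, hπ⟩ := exists_act (f := f) hh hE (hnorm hy)
  by_contra hye
  have hπ1 : π ≠ 1 := fun e => hye (mem_of_trivial hh hE (hsp hy) (e ▸ hπ))
  obtain ⟨j, k, l, m, hjk, hlm, hc1, hc3, i, hci⟩ := exists_commutator_cycle π hπ1
  set τ := Equiv.swap j k * Equiv.swap l m
  obtain ⟨u, huS, huA⟩ := exists_swap (f := f) hh hE hjk hlm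
  have huH : emb (u, u) ∈ H := O.low ⟨S.diag_norm (huA.norm hh hE), emb_mem_iff.2 ⟨huS, huS⟩⟩
  set c := y * u * y⁻¹ * u⁻¹ with hcdef
  have hc : emb (c, (1 : GL4)) ∈ H := by
    have h1 := mul_mem (mul_mem huH (hinv hy)) (inv_mem huH)
    rw [emb_mul, emb_inv, emb_mul, mul_one, mul_inv_cancel] at h1
    have h2 := hprod hy h1
    rwa [show y * (u * y⁻¹ * u⁻¹) = c by rw [hcdef]; group] at h2
  set σ := π * τ * π⁻¹ * τ⁻¹ with hσdef
  have hcσ : Act f c σ := ((hπ.mul huA).mul hπ.inv).mul huA.inv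
  obtain ⟨i', hi'⟩ := exists_ne i
  -- adjust the sign on the fixed axis
  obtain ⟨r, hr, hrc⟩ : ∃ r ∈ side R, r * c * inv5 f i = inv5 f i * (r * c) := by
    rcases hcσ.comm_index hci with e | e
    · exact ⟨1, one_mem _, by rw [one_mul, e]⟩
    · refine ⟨inv5 f i', inv5_mem f i', ?_⟩
      rw [mul_assoc, e, mul_neg, ← mul_assoc, inv5_anti f hi', neg_mul, neg_neg, mul_assoc]
  set a := inv5 f i with ha
  set v := (r * c) ^ 4 with hv
  have hrcH : emb (r * c, (1 : GL4)) ∈ H := hprod (hsideH hr) hc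
  have hpowH : ∀ n, emb ((r * c) ^ n, (1 : GL4)) ∈ H := fun n => by
    induction n with
    | zero => rw [pow_zero, emb_one]; exact one_mem H
    | succ n ih => rw [pow_succ]; exact hprod ih hrcH
  have hrcσ : Act f (r * c) σ := by simpa using (self_act hh hE hr).mul hcσ
  have hvσ : Act f v (σ ^ 4) := hrcσ.pow 4
  have hva : Commute v a := (show Commute (r * c) a from hrc).pow_left 4
  have h3E : (r * c) ^ 3 ∈ side R :=
    mem_of_trivial hh hE (hsp (hpowH 3)) (hc3 ▸ hrcσ.pow 3)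
  have hv3 : v ^ 3 = 1 := by
    rw [hv, ← pow_mul, show 4 * 3 = 3 * 4 from rfl, pow_mul]
    exact hh.pow_four _ h3E
  have haa : a * a = 1 := inv5_sq f i
  have hanti : inv5 f i' * a = -(a * inv5 f i') := inv5_anti f hi'
  have hvH : emb (v, (1 : GL4)) ∈ H := hpowH 4
  -- on both eigenspaces of the axis `v` agrees with the two-group
  have key : ∀ a' : GL4, a' ∈ side R → a' * a' = 1 → inv5 f i' * a' = -(a' * inv5 f i') → Commute v a' →
      Ag a' v 1 := fun a' ha' hsq hanti' hcom => by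
    have hiz : IZ R (emb (a', a')) := ⟨mem_side.1 ha', by rw [emb_mul, hsq, emb_one], fun e => by
      have e' : a' = 1 ∨ a' = -1 := by
        rcases e with e | e
        · rw [← emb_one, emb_inj] at e; exact Or.inl e.1
        · rw [← emb_one, ← emb_neg, emb_inj] at e; exact Or.inr e.1
      rcases e' with rfl | rfl <;> simp at hanti' <;>
        exact absurd hanti' (by first | exact S.ne_neg4 _ | exact (S.ne_neg4 _).symm)⟩
    obtain ⟨d, hd, hdz, hag⟩ := O.proj hiz hvH (by rw [emb_mul, emb_mul, one_mul, mul_one, hcom.eq]) S.hs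
      (swp_emb a' a')
    have hval : (emb (v, (1 : GL4)) * swp * (emb (v, (1 : GL4)))⁻¹).1 = big (0 : M4) v.1 (v⁻¹).1 0 := by
      rw [Units.val_mul, Units.val_mul, emb_inv, inv_one, emb_val, emb_val, swp_val, big_mul, big_mul]
      simp
    have hplus : plus (emb (a', a')) = big (plus a') 0 0 (plus a') := by
      rw [plus, emb_val, ← big_one, big_add]
      simp [plus]
    have hne : v.1 * plus a' ≠ 0 := fun e0 => plus_ne_zero hiz (by
      have e1 : plus a' = 0 := by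
        have := congrArg ((v⁻¹).1 * ·) e0
        simpa [← Matrix.mul_assoc] using this
      rw [hplus, e1]; simp [big])
    unfold Ag at hag
    rw [hval, hplus] at hag
    have hd' : ∃ e ∈ side R, e * a' = a' * e ∧ Ag a' v e := by
      rcases S.ext.comm d hd Z0 S.hZ with hc' | hc'
      · exfalso
        obtain ⟨e, -, rfl | rfl⟩ := S.cent_cases hd hc' <;>
        · rw [emb_val, big_mul, big_mul, big_inj] at hag
          exact hne (by simpa using hag.2.1)
      · obtain ⟨e, he, hde | hde⟩ := S.anti_cases hd hc' <;>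
        · subst hde
          refine ⟨e, he, ?_, ?_⟩
          · have := congrArg Units.val hdz
            simp only [Units.val_mul, emb_val, swp_val, big_mul, big_inj, Matrix.mul_one, Matrix.one_mul,
              Matrix.mul_zero, Matrix.zero_mul, add_zero, zero_add] at this
            exact Units.ext this.2.1
          · rw [Units.val_mul, emb_val, swp_val, big_mul, big_mul, big_mul, big_inj] at hag
            simpa [Ag] using hag.2.1
    obtain ⟨e, he, hea, hve⟩ := hd'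
    exact cube_plus hv3 (hh.pow_four e he) hea hve
  have hv1 : v = 1 := Ag.eq (key a (inv5_mem f i) haa hanti hva)
    (key (-a) (by rw [← neg_one_mul]; exact mul_mem S.side_neg (inv5_mem f i)) (by rw [neg_mul_neg, haa])
      (by rw [mul_neg, neg_mul, hanti]) (hva.neg_right)) S.two
  refine hc1 ?_
  have h4 : σ ^ 4 = 1 := Act.unique (f := f) hh hvσ (hv1 ▸ Act.one)
  calc σ = σ ^ 4 := by rw [pow_succ, hc3, one_mul]
    _ = 1 := h4

/-- The centraliser of `Z0` normalises the two-group. -/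
theorem Over.cent_std (O : Over R H) (S : Std R) {h : GL8} (hh : h ∈ H) (hhz : h * Z0 = Z0 * h) :
    h ∈ normalizer (R : Set GL8) := by
  obtain ⟨x, t, rfl⟩ := comm_Z0 S.two hhz
  have hsH : swp ∈ H := O.low ⟨le_normalizer S.hs, swp_mem⟩
  have hx := O.blocks S hh
  have hxS := (emb_mem_iff.1 (O.high hh)).1
  have hdx := S.diag_norm hx
  have hdH : emb (x, x) ∈ H := O.low ⟨hdx, emb_mem_iff.2 ⟨hxS, hxS⟩⟩
  have h1 : emb (x⁻¹ * t, (1 : GL4)) ∈ H := by
    have := mul_mem (mul_mem hsH (mul_mem (inv_mem hdH) hh)) (inv_mem hsH)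
    rwa [emb_inv, emb_mul, inv_mul_cancel, swp_emb, mul_inv_cancel_right] at this
  have hk := O.kernel S h1
  obtain ⟨r, hrN, -, hrz, hu, hv⟩ := S.root (mem_side.1 hk) (emb_comm_Z0 _ _)
  obtain ⟨c, d, rfl⟩ := comm_Z0 S.two hrz
  have hr' : c = x⁻¹ * t ∧ d = 1 := by
    rw [plus_Z0, emb_val, emb_val, big_mul, big_mul, big_inj] at hu
    rw [minus_Z0, emb_val, big_mul, big_inj] at hv
    simp only [Matrix.mul_smul, Matrix.mul_one, Matrix.mul_zero, add_zero, zero_add] at hu hv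
    exact ⟨Units.ext (smul_right_injective _ S.two hu.1), Units.ext (smul_right_injective _ S.two hv.2.2.2)⟩
  rw [hr'.1, hr'.2] at hrN
  have hs' : swp ∈ normalizer (R : Set GL8) := le_normalizer S.hs
  have h2 := mul_mem hdx (mul_mem (mul_mem hs' hrN) (inv_mem hs'))
  rwa [swp_emb, mul_inv_cancel_right, emb_mul, mul_one, mul_inv_cancel_left] at h2

/-- The local hypotheses hold. -/
theorem Over.loc (O : Over R H) : Loc R H := by
  refine ⟨fun r hr => O.low ⟨le_normalizer hr, O.le hr⟩, fun z hz h hh hhz => ?_, fun z hz g hg hgz => ?_,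
    fun z hz z' hz'H hz'N hz'2 hz'z => ?_⟩
  · obtain ⟨k, hk, hkz, S⟩ := O.transport hz
    have := (O.conj hk).cent_std S (h := k * h * k⁻¹) ⟨h, hh, rfl⟩ (by
      rw [← hkz, show k * h * k⁻¹ * (k * z * k⁻¹) = k * (h * z) * k⁻¹ by group, hhz]
      group)
    have := mem_conj_norm.1 this
    rwa [show k⁻¹ * (k * h * k⁻¹) * k = h by group] at this
  · obtain ⟨x, hxN, hxS, h1, h2, h3⟩ := O.root hz hg hgz
    exact ⟨x, O.low ⟨hxN, hxS⟩, h1, h2, h3⟩
  · obtain ⟨k, hk, hkz, S⟩ := O.transport hz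
    obtain ⟨g₁, hg₁, g₂, hg₂, c₁, c₂, ha, e₁, e₂⟩ := S.pair (z' := k * z' * k⁻¹)
      (mem_conj_norm.2 (by rwa [show k⁻¹ * (k * z' * k⁻¹) * k = z' by group]))
      (mul_mem (mul_mem hk (O.high hz'H)) (inv_mem hk))
      (by rw [show k * z' * k⁻¹ * (k * z' * k⁻¹) = k * (z' * z') * k⁻¹ by group, hz'2, mul_one, mul_inv_cancel])
      (by
        rw [← hkz, show k * z' * k⁻¹ * (k * z * k⁻¹) = k * (z' * z) * k⁻¹ by group, hz'z]
        group)
    have back : ∀ {g}, g * Z0 = Z0 * g → k⁻¹ * g * k * z = z * (k⁻¹ * g * k) := fun {g} e => by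
      calc k⁻¹ * g * k * z = k⁻¹ * (g * (k * z * k⁻¹)) * k := by group
        _ = k⁻¹ * ((k * z * k⁻¹) * g) * k := by rw [hkz, e]
        _ = _ := by group
    have fix : ∀ {g : GL8}, g.1 * (k * z' * k⁻¹).1 * plus Z0 = (k * z' * k⁻¹).1 * g.1 * plus Z0 →
        (k⁻¹ * g * k).1 * z'.1 * plus z = z'.1 * (k⁻¹ * g * k).1 * plus z := fun {g} e => by
      rw [← hkz] at e
      have := plus_back e
      rwa [← Units.val_mul, ← Units.val_mul, ← Units.val_mul, ← Units.val_mul, ← Units.val_mul, ← Units.val_mul,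
        show k⁻¹ * (g * (k * z' * k⁻¹)) * k = k⁻¹ * g * k * z' by group,
        show k⁻¹ * (k * z' * k⁻¹ * g) * k = z' * (k⁻¹ * g * k) by group, Units.val_mul, Units.val_mul (b := k⁻¹ * g * k)]
        at this
    refine ⟨_, mem_conj.1 hg₁, _, mem_conj.1 hg₂, back c₁, back c₂, ?_, fix e₁, fix e₂⟩
    rw [show k⁻¹ * g₁ * k * (k⁻¹ * g₂ * k) = k⁻¹ * (g₁ * g₂) * k by group, ha, mul_neg, neg_mul]
    congr 1
    group

end CfsgLib.MaxSub.Extra.SpEight
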