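import Cfsg.Agent.Lib.MaxSub.SpFive.PauliFrame

/-!
The normaliser of `2^(1+4)` of minus type in `Sp₄` acting on its five axes: products of two transpositions are
realised, the kernel is the group itself, and an involution of the normaliser centralises two anticommuting elements.
-/

set_option autoImplicit false

namespace CfsgLib.MaxSub.Extra.SpEight

open Matrix Subgroup CfsgLib.MaxSub.SpFive CfsgLib.PauliFour

variable {F : Type*} [Field F]

local notation "ι4" => (Fin 2 ⊕ Fin 2)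
local notation "M4" => Matrix (Fin 2 ⊕ Fin 2) (Fin 2 ⊕ Fin 2) F
local notation "GL4" => GL (Fin 2 ⊕ Fin 2) F
local notation "J4" => Matrix.J (Fin 2) F

variable {E : Subgroup (GL (Fin 2 ⊕ Fin 2) F)}

/-- The element moves the axes by the permutation. -/
def Act (f : PauliFour.Frame E) (x : GL (Fin 2 ⊕ Fin 2) F) (π : Equiv.Perm (Fin 5)) : Prop :=
  ∀ i, x * inv5 f i * x⁻¹ = inv5 f (π i) ∨ x * inv5 f i * x⁻¹ = -inv5 f (π i)

variable {f : PauliFour.Frame E} {x y : GL (Fin 2 ⊕ Fin 2) F} {π ρ : Equiv.Perm (Fin 5)}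

theorem Act.one : Act f 1 1 := fun i => Or.inl (by simp)

theorem Act.mul (hx : Act f x π) (hy : Act f y ρ) : Act f (x * y) (π * ρ) := fun i => by
  rw [Equiv.Perm.mul_apply, show x * y * inv5 f i * (x * y)⁻¹ = x * (y * inv5 f i * y⁻¹) * x⁻¹ by group]
  rcases hy i with e | e <;> rw [e] <;> rcases hx (ρ i) with e' | e' <;> simp [e']

theorem Act.inv (hx : Act f x π) : Act f x⁻¹ π⁻¹ := fun i => by
  have key : ∀ {a b : GL4}, x * a * x⁻¹ = b → x⁻¹ * b * x⁻¹⁻¹ = a := fun {a b} e => by rw [← e]; group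
  rcases hx (π⁻¹ i) with e | e <;> rw [Equiv.Perm.inv_def, Equiv.apply_symm_apply] at e
  · exact Or.inl (key e)
  · have e' := key e
    rw [mul_neg, neg_mul] at e'
    exact Or.inr (neg_eq_iff_eq_neg.1 e')

theorem Act.pow (hx : Act f x π) : ∀ n : ℕ, Act f (x ^ n) (π ^ n)
  | 0 => by rw [pow_zero, pow_zero]; exact Act.one
  | n + 1 => by rw [pow_succ, pow_succ]; exact (hx.pow n).mul hx

theorem Act.comm_index {i : Fin 5} (hx : Act f x π) (h : π i = i) :
    x * inv5 f i = inv5 f i * x ∨ x * inv5 f i = -(inv5 f i * x) := by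
  rcases hx i with e | e <;> rw [h, mul_inv_eq_iff_eq_mul] at e
  · exact Or.inl e
  · exact Or.inr (by rw [e, neg_mul])

theorem axis_eq (h : Sys E) {i j : Fin 5} (e : inv5 f i = inv5 f j ∨ inv5 f i = -inv5 f j) : i = j := by
  by_contra hij
  haveI := h.nonempty
  have ha := inv5_anti f hij
  refine ne_neg_self h.two (inv5 f j * inv5 f i) ?_
  rcases e with e | e <;> rw [e] at ha ⊢ <;> simpa using ha

theorem Act.unique (h : Sys E) (hx : Act f x π) (hy : Act f x ρ) : π = ρ := Equiv.ext fun i => by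
  refine axis_eq (f := f) h ?_
  rcases hx i with e | e <;> rcases hy i with e' | e' <;> rw [e'] at e
  · exact Or.inl e.symm
  · exact Or.inr e.symm
  · exact Or.inr (by rw [e, neg_neg])
  · exact Or.inl (neg_injective e).symm

theorem exists_act (h : Sys E) (hE : E ≤ Cfsg.spGL 2 F) (hx : x ∈ normalizer (E : Set GL4)) :
    ∃ π, Act f x π := by
  choose j hj using (normalizer_iff (f := f) h hE x).1 hx
  have hinj : Function.Injective j := fun a b e => by
    refine axis_eq (f := f) h ?_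
    have inj : ∀ {u v : GL4}, x * u * x⁻¹ = x * v * x⁻¹ → u = v := fun {u v} e =>
      mul_left_cancel (mul_right_cancel e)
    rcases hj a with ea | ea <;> rcases hj b with eb | eb <;> rw [e] at ea
    · exact Or.inl (inj (ea.trans eb.symm))
    · exact Or.inr (inj (by rw [ea, mul_neg, neg_mul, eb, neg_neg]))
    · exact Or.inr (inj (by rw [ea, mul_neg, neg_mul, eb]))
    · exact Or.inl (inj (ea.trans eb.symm))
  exact ⟨Equiv.ofBijective j (Finite.injective_iff_bijective.1 hinj), hj⟩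

theorem Act.norm (h : Sys E) (hE : E ≤ Cfsg.spGL 2 F) (hx : Act f x π) : x ∈ normalizer (E : Set GL4) :=
  (normalizer_iff (f := f) h hE x).2 fun i => ⟨π i, hx i⟩

theorem sp_scalar {c : F} (hx : x ∈ Cfsg.spGL 2 F) (e : x.1 = c • (1 : M4)) : x = 1 ∨ x = -1 := by
  have h1 := (mem_symp x).1 hx
  rw [e] at h1
  have h2 := congrFun (congrFun h1 (.inl 0)) (.inr 0)
  simp [Matrix.J] at h2
  rcases mul_self_eq_one_iff.1 h2 with h2 | h2
  · exact Or.inl (Units.ext (by rw [e, h2, one_smul, Units.val_one]))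
  · exact Or.inr (Units.ext (by rw [e, h2, neg_one_smul, Units.val_neg, Units.val_one]))

theorem self_act (h : Sys E) (hE : E ≤ Cfsg.spGL 2 F) (hx : x ∈ E) : Act f x 1 := fun i => by
  rcases h.comm x hx (inv5 f i) (inv5_mem f i) with e | e <;> rw [e]
  · exact Or.inl (mul_inv_cancel_right _ _)
  · exact Or.inr (by rw [neg_mul, mul_inv_cancel_right]; rfl)

/-- Only the group itself fixes all axes. -/
theorem mem_of_trivial (h : Sys E) (hE : E ≤ Cfsg.spGL 2 F) (hx : x ∈ Cfsg.spGL 2 F) (ha : Act f x 1) : x ∈ E := by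
  have step : ∀ (t r : GL4), r ∈ E → r * t = -(t * r) → ∀ u, u ∈ Cfsg.spGL 2 F → Act f u 1 →
      (u * t = t * u ∨ u * t = -(t * u)) → ∃ s ∈ E, s * u * t = t * (s * u) ∧
      ∀ v, (u * v = v * u) → (r * v = v * r) → s * u * v = v * (s * u) := by
    intro t r hr hrt u hu hua hut
    rcases hut with e | e
    · exact ⟨1, one_mem E, by rw [one_mul, e], fun v hv _ => by rw [one_mul, hv]⟩
    · refine ⟨r, hr, ?_, fun v hv hrv => ?_⟩
      · rw [mul_assoc, e, mul_neg, ← mul_assoc, hrt, neg_mul, neg_neg, mul_assoc]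
      · rw [mul_assoc, hv, ← mul_assoc, hrv, mul_assoc]
  have signs : ∀ {u}, Act f u 1 → ∀ i, u * inv5 f i = inv5 f i * u ∨ u * inv5 f i = -(inv5 f i * u) :=
    fun {u} hu i => hu.comm_index rfl
  have signc : ∀ {u}, Act f u 1 → (u * f.c = f.c * u ∨ u * f.c = -(f.c * u)) ∧
      (u * f.d = f.d * u ∨ u * f.d = -(f.d * u)) := fun {u} hu => by
    have ha := signs hu 0
    have hb := signs hu 1
    have conv : ∀ {t : GL4}, (u * t = t * u ∨ u * t = -(t * u)) →
        (u * t * u⁻¹ = t ∨ u * t * u⁻¹ = -t) := fun {t} e => by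
      rcases e with e | e <;> rw [e]
      · exact Or.inl (mul_inv_cancel_right _ _)
      · exact Or.inr (by rw [neg_mul, mul_inv_cancel_right])
    have key : ∀ {t : GL4}, (u * (f.a * f.b * t) = f.a * f.b * t * u ∨ u * (f.a * f.b * t) = -(f.a * f.b * t * u)) →
        u * t = t * u ∨ u * t = -(t * u) := fun {t} e => by
      have hm : ∀ {v w : GL4}, (u * v * u⁻¹ = v ∨ u * v * u⁻¹ = -v) → (u * w * u⁻¹ = w ∨ u * w * u⁻¹ = -w) →
          (u * (v * w) * u⁻¹ = v * w ∨ u * (v * w) * u⁻¹ = -(v * w)) := fun {v w} ev ew => by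
        rw [show u * (v * w) * u⁻¹ = (u * v * u⁻¹) * (u * w * u⁻¹) by group]
        rcases ev with ev | ev <;> rcases ew with ew | ew <;> rw [ev, ew] <;> simp
      have hi : ∀ {v : GL4}, (u * v * u⁻¹ = v ∨ u * v * u⁻¹ = -v) →
          (u * v⁻¹ * u⁻¹ = v⁻¹ ∨ u * v⁻¹ * u⁻¹ = -v⁻¹) := fun {v} ev => by
        rw [show u * v⁻¹ * u⁻¹ = (u * v * u⁻¹)⁻¹ by group]
        rcases ev with ev | ev <;> rw [ev]
        · exact Or.inl rfl
        · exact Or.inr (inv_eq_of_mul_eq_one_right (by rw [neg_mul_neg, mul_inv_cancel]))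
      have fin : u * t * u⁻¹ = t ∨ u * t * u⁻¹ = -t := by
        have := hm (hi (hm (conv ha) (conv hb))) (conv e)
        rwa [show (inv5 f 0 * inv5 f 1)⁻¹ * (f.a * f.b * t) = t from inv_mul_cancel_left _ _] at this
      rcases fin with e2 | e2 <;> rw [mul_inv_eq_iff_eq_mul] at e2
      · exact Or.inl e2
      · exact Or.inr (by rw [e2, neg_mul])
    exact ⟨key (signs hu 2), key (signs hu 3)⟩
  have ba := f.ba
  have ab : f.a * f.b = -(f.b * f.a) := by rw [f.ba, neg_neg]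
  have cd : f.c * f.d = -(f.d * f.c) := by rw [f.dc, neg_neg]
  obtain ⟨s₁, hs₁, e₁a, -⟩ := step f.a f.b f.hb f.ba x hx ha (signs ha 0)
  have hx₁ : s₁ * x ∈ Cfsg.spGL 2 F := mul_mem (hE hs₁) hx
  have ha₁ : Act f (s₁ * x) 1 := by simpa using (self_act h hE hs₁).mul ha
  obtain ⟨s₂, hs₂, e₂b, k₂⟩ := step f.b f.a f.ha ab _ hx₁ ha₁ (signs ha₁ 1)
  have e₂a := k₂ f.a e₁a rfl
  have hx₂ : s₂ * (s₁ * x) ∈ Cfsg.spGL 2 F := mul_mem (hE hs₂) hx₁
  have ha₂ : Act f (s₂ * (s₁ * x)) 1 := by simpa using (self_act h hE hs₂).mul ha₁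
  obtain ⟨s₃, hs₃, e₃c, k₃⟩ := step f.c f.d f.hd f.dc _ hx₂ ha₂ (signc ha₂).1
  have e₃a := k₃ f.a e₂a f.da
  have e₃b := k₃ f.b e₂b f.db
  have hx₃ : s₃ * (s₂ * (s₁ * x)) ∈ Cfsg.spGL 2 F := mul_mem (hE hs₃) hx₂
  have ha₃ : Act f (s₃ * (s₂ * (s₁ * x))) 1 := by simpa using (self_act h hE hs₃).mul ha₂
  obtain ⟨s₄, hs₄, e₄d, k₄⟩ := step f.d f.c f.hc cd _ hx₃ ha₃ (signc ha₃).2
  set w := s₄ * (s₃ * (s₂ * (s₁ * x))) with hw
  have e₄a : Commute w f.a := k₄ f.a e₃a f.ca
  have e₄b : Commute w f.b := k₄ f.b e₃b f.cb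
  have e₄c : Commute w f.c := k₄ f.c e₃c rfl
  have e₄d' : Commute w f.d := e₄d
  obtain ⟨c, hc⟩ := h.irr w.1 fun s hs => by
    obtain ⟨u, -, e⟩ := eq_rep f h hs
    have : Commute w s := by
      rw [e, rep]
      exact (show Commute w (sc u) from (sc_comm u w).symm).mul_right
        ((((e₄a.pow_right _).mul_right (e₄b.pow_right _)).mul_right (e₄c.pow_right _)).mul_right (e₄d'.pow_right _))
    exact congrArg Units.val this.eq
  have hwE : w ∈ E := by
    rcases sp_scalar (mul_mem (hE hs₄) hx₃) hc with e | e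
    · rw [hw, e]; exact one_mem E
    · rw [hw, e]; exact h.neg
  rw [show x = s₁⁻¹ * (s₂⁻¹ * (s₃⁻¹ * (s₄⁻¹ * w))) by rw [hw]; group]
  exact mul_mem (inv_mem hs₁) (mul_mem (inv_mem hs₂) (mul_mem (inv_mem hs₃) (mul_mem (inv_mem hs₄) hwE)))

theorem J_axis (h : Sys E) (hE : E ≤ Cfsg.spGL 2 F) (i : Fin 5) : ((inv5 f i).1)ᵀ * J4 = J4 * (inv5 f i).1 := by
  rw [← X_vec5 h.two hE]
  exact (isA_X _).1

/-- A product of two transpositions of the axes is realised in the symplectic group. -/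
theorem exists_swap (h : Sys E) (hE : E ≤ Cfsg.spGL 2 F) {j k l m : Fin 5} (hjk : j ≠ k) (hlm : l ≠ m) :
    ∃ u ∈ Cfsg.spGL 2 F, Act f u (Equiv.swap j k * Equiv.swap l m) := by
  let A : Fin 5 → M4 := fun i => (inv5 f i).1
  have sqA : ∀ i, A i * A i = 1 := fun i => congrArg Units.val (inv5_sq f i)
  have antiA : ∀ {i i'}, i ≠ i' → A i * A i' = -(A i' * A i) := fun hii => congrArg Units.val (inv5_anti f hii)
  have hd : ∀ {s t}, s ≠ t → (A s - A t) * (A s - A t) = (2 : F) • (1 : M4) := fun {s t} hst => by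
    simp only [sub_mul, mul_sub, sqA, antiA hst, two_smul]
    abel
  have hmove : ∀ {s t}, s ≠ t → ∀ v, (A s - A t) * A v = -(A (Equiv.swap s t v) * (A s - A t)) := fun {s t} hst v => by
    by_cases h1 : v = s
    · subst h1
      rw [Equiv.swap_apply_left]
      simp only [sub_mul, mul_sub, sqA]
      abel
    by_cases h2' : v = t
    · subst h2'
      rw [Equiv.swap_apply_right]
      simp only [sub_mul, mul_sub, sqA]
      abel
    rw [Equiv.swap_apply_of_ne_of_ne h1 h2', sub_mul, mul_sub, antiA (Ne.symm h1), antiA (Ne.symm h2')]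
    abel
  have h22 : (2 : F)⁻¹ * (2 : F)⁻¹ * 2 * 2 = 1 := by field_simp [h.two]
  set a := A j - A k with ha
  set b := A l - A m with hb
  have hab : ((2 : F)⁻¹ • (a * b)) * ((2 : F)⁻¹ • (b * a)) = 1 := by
    rw [Matrix.smul_mul, Matrix.mul_smul, smul_smul, show a * b * (b * a) = a * (b * b) * a by
      simp only [Matrix.mul_assoc], hd hlm, Matrix.mul_smul, Matrix.mul_one, Matrix.smul_mul, hd hjk, smul_smul,
      smul_smul, h22, one_smul]
  let u : GL4 := ⟨_, _, hab, mul_eq_one_comm.1 hab⟩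
  refine ⟨u, ?_, fun v => Or.inl ?_⟩
  · have hJ : ∀ {s t}, (A s - A t)ᵀ * J4 = J4 * (A s - A t) := fun {s t} => by
      rw [Matrix.transpose_sub, sub_mul, mul_sub, J_axis h hE, J_axis h hE]
    rw [mem_symp]
    show ((2 : F)⁻¹ • (a * b))ᵀ * J4 * ((2 : F)⁻¹ • (a * b)) = J4
    rw [Matrix.transpose_smul, Matrix.transpose_mul, Matrix.smul_mul, Matrix.smul_mul, Matrix.mul_smul, smul_smul,
      show bᵀ * aᵀ * J4 * (a * b) = bᵀ * (aᵀ * J4) * a * b by simp only [Matrix.mul_assoc], hJ,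
      show bᵀ * (J4 * a) * a * b = bᵀ * J4 * (a * a) * b by simp only [Matrix.mul_assoc], hd hjk, Matrix.mul_smul,
      Matrix.mul_one, Matrix.smul_mul, hJ, Matrix.mul_assoc, hd hlm, Matrix.mul_smul, Matrix.mul_one, smul_smul,
      smul_smul, h22, one_smul]
  · rw [mul_inv_eq_iff_eq_mul]
    refine Units.ext ?_
    show ((2 : F)⁻¹ • (a * b)) * A v = A _ * ((2 : F)⁻¹ • (a * b))
    rw [Matrix.smul_mul, Matrix.mul_smul, Equiv.Perm.mul_apply, Matrix.mul_assoc, hmove hlm, Matrix.mul_neg,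
      ← Matrix.mul_assoc, hmove hjk, Matrix.neg_mul, neg_neg, Matrix.mul_assoc]

theorem exists_commutator_cycle : ∀ π : Equiv.Perm (Fin 5), π ≠ 1 → ∃ j k l m : Fin 5, j ≠ k ∧ l ≠ m ∧
    π * (Equiv.swap j k * Equiv.swap l m) * π⁻¹ * (Equiv.swap j k * Equiv.swap l m)⁻¹ ≠ 1 ∧
    (π * (Equiv.swap j k * Equiv.swap l m) * π⁻¹ * (Equiv.swap j k * Equiv.swap l m)⁻¹) ^ 3 = 1 ∧
    ∃ i, (π * (Equiv.swap j k * Equiv.swap l m) * π⁻¹ * (Equiv.swap j k * Equiv.swap l m)⁻¹) i = i := by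
  decide +kernel

theorem exists_three_avoiding : ∀ l j : Fin 5, ∃ p q r : Fin 5, p ≠ q ∧ q ≠ r ∧ p ≠ r ∧
    p ≠ l ∧ p ≠ j ∧ q ≠ l ∧ q ≠ j ∧ r ≠ l ∧ r ≠ j := by
  decide

theorem exists_scalar_X (h2 : (2 : F) ≠ 0) {M : M4} (hM : Mᵀ * J4 = J4 * M) :
    ∃ c : F, ∃ v, M = c • (1 : M4) + X v := by
  have h4 : (4 : F) ≠ 0 := by rw [show (4 : F) = 2 * 2 by norm_num]; exact mul_ne_zero h2 h2
  set c : F := 4⁻¹ * M.trace
  refine ⟨c, co (M - c • (1 : M4)), ?_⟩
  rw [X_co h2 ⟨?_, ?_⟩]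
  · rw [add_sub_cancel]
  · rw [Matrix.transpose_sub, Matrix.transpose_smul, Matrix.transpose_one, sub_mul, mul_sub, hM, Matrix.smul_mul,
      Matrix.mul_smul, Matrix.one_mul, Matrix.mul_one]
  · rw [Matrix.trace_sub, Matrix.trace_smul, Matrix.trace_one, Fintype.card_sum, Fintype.card_fin, smul_eq_mul]
    show M.trace - c * ((2 + 2 : ℕ) : F) = 0
    simp only [c]
    norm_num
    rw [mul_right_comm, inv_mul_cancel₀ h4, one_mul, sub_self]

/-- An involution of the normaliser centralises two anticommuting elements of the group. -/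
theorem exists_pair (h : Sys E) (hE : E ≤ Cfsg.spGL 2 F) (f : PauliFour.Frame E) {a : GL4}
    (ha : a ∈ Cfsg.spGL 2 F) (hN : a ∈ normalizer (E : Set GL4)) (haa : a * a = 1) :
    ∃ g₁ ∈ E, ∃ g₂ ∈ E, g₁ * g₂ = -(g₂ * g₁) ∧ g₁ * a = a * g₁ ∧ g₂ * a = a * g₂ := by
  have h2 := h.two
  have haa' : a.1 * a.1 = 1 := congrArg Units.val haa
  have hJ : a.1ᵀ * J4 = J4 * a.1 := by
    calc a.1ᵀ * J4 = a.1ᵀ * J4 * a.1 * a.1 := by rw [Matrix.mul_assoc _ a.1, haa', Matrix.mul_one]
      _ = _ := by rw [(mem_symp a).1 ha]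
  obtain ⟨c, v, hcv⟩ := exists_scalar_X h2 hJ
  obtain ⟨Φ, hΦ, -⟩ := exists_coord (f := f) h2 hE
  by_cases hc : c = 0
  swap
  · have hXv : X v = 0 := by
      have hq : (2 * c) • X v = (1 - c * c - CfsgLib.StdQuadForms.Qo 2 v) • (1 : M4) := by
        have := haa'
        rw [hcv, add_mul, mul_add, mul_add, X_sq, Matrix.smul_mul, Matrix.smul_mul, Matrix.mul_smul,
          Matrix.mul_smul, Matrix.one_mul, Matrix.one_mul, Matrix.mul_one, smul_smul] at this
        linear_combination (norm := module) this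
      have ht : (X v).trace = 0 := (isA_X v).2
      have ht' := congrArg Matrix.trace hq
      rw [Matrix.trace_smul, Matrix.trace_smul, ht, smul_zero, Matrix.trace_one, Fintype.card_sum,
        Fintype.card_fin, smul_eq_mul] at ht'
      norm_num at ht'
      have h4 : (4 : F) ≠ 0 := by rw [show (4 : F) = 2 * 2 by norm_num]; exact mul_ne_zero h2 h2
      have hz := ht'.resolve_right h4
      rw [hz, zero_smul] at hq
      exact (smul_eq_zero.1 hq).resolve_left (mul_ne_zero h2 hc)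
    rw [hXv, add_zero] at hcv
    refine ⟨f.a, f.ha, f.b, f.hb, by rw [f.ba, neg_neg], ?_, ?_⟩ <;>
      exact Units.ext (by simp [hcv])
  obtain ⟨z, rfl⟩ := Φ.surjective v
  obtain ⟨l, hl⟩ : ∃ l, z l ≠ 0 := by
    by_contra! hh
    have hz : z = 0 := funext hh
    rw [hz, map_zero, X_zero, add_zero, hc, zero_smul] at hcv
    exact a.ne_zero hcv
  rw [hc, zero_smul, zero_add] at hcv
  obtain ⟨j, hj⟩ := (normalizer_iff (f := f) h hE a).1 hN l
  set A : Fin 5 → M4 := fun i => (inv5 f i).1 with hA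
  have hpol : a.1 * A l + A l * a.1 = (2 * z l) • (1 : M4) := by
    simp only [hA]
    rw [hcv, ← X_vec5 h2 hE, X_anti]
    congr 1
    rw [← QuadraticMap.polarBilin_apply_apply, show Φ z = ∑ i, z i • vec5 f i by
      conv_lhs => rw [pi_eq_sum_univ' z]
      rw [map_sum]
      exact Finset.sum_congr rfl fun i _ => by rw [map_smul, ← hΦ]; rfl, map_sum, LinearMap.sum_apply, Finset.sum_eq_single l]
    · rw [map_smul, LinearMap.smul_apply, QuadraticMap.polarBilin_apply_apply, QuadraticMap.polar_self,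
        vec5_norm h2 hE]
      simp [mul_comm]
    · intro i _ hil
      rw [map_smul, LinearMap.smul_apply, QuadraticMap.polarBilin_apply_apply, vec5_orth h2 hE hil, smul_zero]
    · exact fun hh => absurd (Finset.mem_univ l) hh
  have hai : (a⁻¹ : GL4) = a := inv_eq_of_mul_eq_one_right haa
  have hjm : a.1 * A l * a.1 = A j ∨ a.1 * A l * a.1 = -A j := by
    rw [hai] at hj
    rcases hj with e | e
    · exact Or.inl (congrArg Units.val e)
    · exact Or.inr (congrArg Units.val e)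
  have hspan : (2 * z l) • a.1 = a.1 * A l * a.1 + A l := by
    have e := congrArg (a.1 * ·) hpol
    simp only [mul_add, Matrix.mul_smul, Matrix.mul_one, ← Matrix.mul_assoc, haa', Matrix.one_mul] at e
    rw [← e]; abel
  obtain ⟨p, q, r, hpq, hqr, hpr, hpl, hpj, hql, hqj, hrl, hrj⟩ := exists_three_avoiding l j
  have antiA : ∀ {i i'}, i ≠ i' → A i * A i' = -(A i' * A i) := fun hii => congrArg Units.val (inv5_anti f hii)
  have pass : ∀ {s t u : Fin 5}, s ≠ u → t ≠ u → A s * A t * A u = A u * (A s * A t) := fun {s t u} hs ht => by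
    rw [Matrix.mul_assoc, antiA ht, Matrix.mul_neg, ← Matrix.mul_assoc, antiA hs, Matrix.neg_mul, neg_neg,
      Matrix.mul_assoc]
  have cm : ∀ {s t : Fin 5}, s ≠ l → s ≠ j → t ≠ l → t ≠ j →
      inv5 f s * inv5 f t * a = a * (inv5 f s * inv5 f t) := fun {s t} a1 a2 a3 a4 => by
    refine Units.ext ?_
    show A s * A t * a.1 = a.1 * (A s * A t)
    have e : A s * A t * ((2 * z l) • a.1) = ((2 * z l) • a.1) * (A s * A t) := by
      rw [hspan, mul_add, add_mul, pass a1 a3]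
      congr 1
      rcases hjm with e | e <;> rw [e]
      · exact pass a2 a4
      · rw [Matrix.mul_neg, Matrix.neg_mul, pass a2 a4]
    rw [Matrix.mul_smul, Matrix.smul_mul] at e
    exact smul_right_injective _ (mul_ne_zero h2 hl) e
  refine ⟨inv5 f p * inv5 f q, mul_mem (inv5_mem f p) (inv5_mem f q), inv5 f q * inv5 f r,
    mul_mem (inv5_mem f q) (inv5_mem f r), ?_, cm hpl hpj hql hqj, cm hql hqj hrl hrj⟩
  refine Units.ext ?_
  show A p * A q * (A q * A r) = -(A q * A r * (A p * A q))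
  have hqq : A q * A q = 1 := congrArg Units.val (inv5_sq f q)
  rw [show A p * A q * (A q * A r) = A p * (A q * A q) * A r by simp only [Matrix.mul_assoc], hqq, Matrix.mul_one,
    show A q * A r * (A p * A q) = A q * A r * A p * A q by simp only [Matrix.mul_assoc], pass hpq.symm hpr.symm,
    show A p * (A q * A r) * A q = A p * (A q * A r * A q) by simp only [Matrix.mul_assoc],
    Matrix.mul_assoc (A q), antiA hqr.symm, Matrix.mul_neg, ← Matrix.mul_assoc, hqq, Matrix.one_mul,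
    Matrix.mul_neg, neg_neg]

end CfsgLib.MaxSub.Extra.SpEight
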