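import Cfsg.Agent.Lib.MaxSub.Extra.Group
import Cfsg.Agent.Lib.MaxSub.Extra.SpEight.Kernel
import Cfsg.Prelude.Def_GeometricClasses

/-!
The normaliser of `2^(1+6)` of minus type is maximal in `Sp₈(p)` for odd primes `p`.
-/

set_option autoImplicit false

namespace CfsgLib.MaxSub.Extra.SpEight

open Matrix Subgroup Cfsg.Geo

variable {F : Type*} [Field F] [Fintype F]

local notation "M8" => Matrix (Fin 4 ⊕ Fin 4) (Fin 4 ⊕ Fin 4) F
local notation "GL8" => GL (Fin 4 ⊕ Fin 4) F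
local notation "GL4" => GL (Fin 2 ⊕ Fin 2) F

/-- The hypotheses of the classification give the working properties. -/
theorem ext_of_hyp (h2 : (2 : F) ≠ 0) {R : Subgroup GL8} (hs : IsSymplecticTypeGroup 2 R)
    (hi : ActsAbsolutelyIrreducibly (matrixSet R)) (hR : R ≤ Cfsg.spGL 4 F) (hc : Nat.card R = 128)
    (hz : Nat.card (Subgroup.center R) = 2) (hm : IsOfMinusType 3 R) : Ext R := by
  classical
  haveI : Finite R := Nat.finite_of_card_ne_zero (by rw [hc]; norm_num)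
  have h4 : ∀ x : R, x ^ 4 = 1 := fun x => by
    have := Monoid.pow_exponent_eq_one x
    rwa [hs.exponent_eq] at this
  have irr : ∀ M : M8, (∀ s ∈ R, M * (s : M8) = (s : M8) * M) → ∃ c : F, M = c • 1 :=
    fun M hM => hi.2 M fun s hs' => by obtain ⟨g, hg, rfl⟩ := hs'; exact hM g hg
  have central : ∀ x ∈ R, (∀ y ∈ R, x * y = y * x) → PM x 1 := fun x hx hxc => by
    obtain ⟨c, e⟩ := irr x fun s hs' => congrArg Units.val (hxc s hs')
    have h1 := (mem_sp x).1 (hR hx)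
    rw [e] at h1
    have h3 := congrFun (congrFun h1 (.inl 0)) (.inr 0)
    simp [Matrix.J] at h3
    rcases mul_self_eq_one_iff.1 h3 with h3 | h3
    · exact Or.inl (Units.ext (by rw [e, h3, one_smul, Units.val_one]))
    · exact Or.inr (Units.ext (by rw [e, h3, neg_one_smul, Units.val_neg, Units.val_one]))
  have cen : ∀ z ∈ Subgroup.center R, PM (z : GL8) 1 := fun z hz' => central z z.2 fun y hy =>
    (congrArg Subtype.val (Subgroup.mem_center_iff.1 hz' ⟨y, hy⟩)).symm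
  have hcomm : ∀ x ∈ R, ∀ y ∈ R, x * y = y * x ∨ x * y = -(y * x) := fun x hx y hy => by
    have e := cen _ (commutators_central hs.pGroup h4 hs.cyclic_of_characteristic hz ⟨x, hx⟩ ⟨y, hy⟩)
    simp only [Subgroup.coe_mul, InvMemClass.coe_inv] at e
    rcases e with e | e
    · left; rw [mul_inv_eq_one, mul_inv_eq_iff_eq_mul] at e; exact e
    · right; rw [mul_inv_eq_iff_eq_mul, mul_inv_eq_iff_eq_mul, neg_one_mul, neg_mul] at e; exact e
  have hsq : ∀ x ∈ R, PM (x * x) 1 := fun x hx => by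
    have e := cen _ (squares_central hs.pGroup h4 hs.cyclic_of_characteristic hz ⟨x, hx⟩)
    simpa [pow_two] using e
  have hneg : -1 ∈ R := by
    obtain ⟨z, hz', hz1⟩ : ∃ z : R, z ∈ Subgroup.center R ∧ z ≠ 1 := by
      obtain ⟨w, hw, -⟩ := Nat.card_eq_two_iff' (1 : Subgroup.center R) |>.1 hz
      exact ⟨w.1, w.2, fun e => hw (Subtype.ext e)⟩
    rcases cen z hz' with e | e
    · exact absurd (Subtype.ext e) hz1
    · exact e ▸ z.2
  refine ⟨h2, ?_, inferInstance, hneg, hcomm, hsq, central, irr, fun C hC hinv => ?_, hc.ge⟩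
  · rw [Fintype.card_sum, Fintype.card_fin]
    push_cast
    rw [show (8 : F) = 2 * 2 * 2 by norm_num]
    exact mul_ne_zero (mul_ne_zero h2 h2) h2
  · let A : Subgroup R := C.subgroupOf R
    have hA2 : ∀ x ∈ A, x * x = 1 := fun x hx => Subtype.ext (hinv _ (Subgroup.mem_subgroupOf.1 hx))
    have hAc : IsMulCommutative A := ⟨⟨fun x y => Subtype.ext (by
      show x.1 * y.1 = y.1 * x.1
      have hi : ∀ w ∈ A, w⁻¹ = w := fun w hw => inv_eq_of_mul_eq_one_right (hA2 w hw)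
      rw [← hi _ (mul_mem x.2 y.2), _root_.mul_inv_rev, hi _ x.2, hi _ y.2])⟩⟩
    have := hm A hAc hA2
    rw [Nat.card_congr (Subgroup.subgroupOfEquivOfLe hC).toEquiv] at this
    rw [hc]
    norm_num at this ⊢
    omega

/-- The normaliser of `2^(1+6)` of minus type is maximal in `Sp₈`. -/
theorem extraspecial_maximal (hp : (Fintype.card F).Prime) (hodd : Odd (Fintype.card F))
    (R : Subgroup GL8) (hs : IsSymplecticTypeGroup 2 R) (hi : ActsAbsolutelyIrreducibly (matrixSet R))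
    (hR : R ≤ Cfsg.spGL 4 F) (hc : Nat.card R = 128) (hz : Nat.card (Subgroup.center R) = 2)
    (hm : IsOfMinusType 3 R) :
    IsMaximalIn (Cfsg.spGL 4 F) (subgroupNormalizer R ⊓ Cfsg.spGL 4 F) := by
  classical
  have h2 : (2 : F) ≠ 0 := CfsgLib.FiniteForms.two_ne_zero_of_odd (F := F) rfl hodd
  have X := ext_of_hyp h2 hs hi hR hc hz hm
  have mk : ∀ H, subgroupNormalizer R ⊓ Cfsg.spGL 4 F ≤ H → H ≤ Cfsg.spGL 4 F → H ≠ Cfsg.spGL 4 F → Over R H :=
    fun H h1 h2 h3 => ⟨hp, X, hR, hc, h1, h2, h3⟩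
  have hne : subgroupNormalizer R ⊓ Cfsg.spGL 4 F ≠ Cfsg.spGL 4 F := by
    intro e
    have hall : ∀ x ∈ Cfsg.spGL 4 F, x ∈ normalizer (R : Set GL8) := fun x hx => (e.ge hx).1
    obtain ⟨z, -, hz⟩ := X.exists_iz le_rfl (by rw [hc]; norm_num)
    obtain ⟨w, hw, hwz⟩ := X.exists_iz_anti hz.1 hz.2.2
    obtain ⟨g, hg, e1, e2⟩ := exists_std h2 (hR hz.1) (hR hw.1) hz.2.1 hw.2.1 hwz
    have S : Std (R.map (MulAut.conj g).toMonoidHom) := by
      refine ⟨X.conj g, ?_, ?_, ⟨z, hz.1, e1⟩, ⟨w, hw.1, e2⟩⟩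
      · rintro _ ⟨r, hr, rfl⟩
        exact mul_mem (mul_mem hg (hR hr)) (inv_mem hg)
      · rw [← hc]
        exact (Nat.card_congr (R.equivMapOfInjective _ (MulAut.conj g).injective).toEquiv).symm
    refine (SpFive.pauli_maximal_sys hp _ S.sys S.side_le S.side_minus).1.ne (le_antisymm inf_le_right ?_)
    intro a ha
    refine ⟨S.side_norm (b := (1 : GL4)) (mem_conj_norm.2 (hall _ ?_)), ha⟩
    exact mul_mem (mul_mem (inv_mem hg) (emb_mem_iff.2 ⟨ha, one_mem _⟩)) hg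
  refine ⟨lt_of_le_of_ne inf_le_right hne, fun H hH hHS => ?_⟩
  by_cases hH' : H = Cfsg.spGL 4 F
  · exact Or.inr hH'
  exact Or.inl (le_antisymm (le_inf ((mk H hH hHS hH').loc.le_normalizer X) hHS) hH)

end CfsgLib.MaxSub.Extra.SpEight
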