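import Cfsg.Agent.Lib.MaxSub.Extra.Fusion
import Cfsg.Agent.Lib.SympBlocks
import Cfsg.Agent.Lib.SympSimple
import Cfsg.Agent.Lib.PauliFour.Symplectic

/-!
Block coordinates for `Sp₈` as the two four-dimensional eigenspaces of a non-central involution of a group
`2^(1+6)`, and the transport of a pair of anticommuting involutions to the standard pair.
-/

set_option autoImplicit false

namespace CfsgLib.MaxSub.Extra.SpEight

open Matrix Subgroup

variable {F : Type*} [Field F]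

local notation "ι4" => (Fin 2 ⊕ Fin 2)
local notation "ι8" => (Fin 4 ⊕ Fin 4)
local notation "M4" => Matrix (Fin 2 ⊕ Fin 2) (Fin 2 ⊕ Fin 2) F
local notation "M8" => Matrix (Fin 4 ⊕ Fin 4) (Fin 4 ⊕ Fin 4) F
local notation "GL4" => GL (Fin 2 ⊕ Fin 2) F
local notation "GL8" => GL (Fin 4 ⊕ Fin 4) F
local notation "J4" => Matrix.J (Fin 2) F

theorem mem_sp {m : ℕ} (g : GL (Fin m ⊕ Fin m) F) :
    g ∈ Cfsg.spGL m F ↔ g.1ᵀ * Matrix.J (Fin m) F * g.1 = Matrix.J (Fin m) F := by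
  constructor
  · intro h
    obtain ⟨s, hs⟩ := SympSimple.toSpGL_surjective (⟨g, h⟩ : Cfsg.spGL m F)
    rw [show g.1 = s.1 from (congrArg (fun x : Cfsg.spGL m F => x.1.1) hs).symm]
    exact SymplecticGroup.mem_iff'.1 s.2
  · intro h
    have := (SympSimple.toSpGL (⟨g.1, SymplecticGroup.mem_iff'.2 h⟩ : Matrix.symplecticGroup (Fin m) F)).2
    rwa [show (SympSimple.toSpGL (⟨g.1, SymplecticGroup.mem_iff'.2 h⟩ : Matrix.symplecticGroup (Fin m) F)).1 = g
      from Units.ext rfl] at this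

/-- The index split. -/
def e8 : ι8 ≃ ι4 ⊕ ι4 := SympBlocks.e 2 2

/-- The matrix with four blocks. -/
def big (A B C D : M4) : M8 := (Matrix.fromBlocks A B C D).submatrix e8 e8

theorem big_mul (A B C D A' B' C' D' : M4) :
    big A B C D * big A' B' C' D' =
      big (A * A' + B * C') (A * B' + B * D') (C * A' + D * C') (C * B' + D * D') := by
  rw [big, big, big, Matrix.submatrix_mul_equiv, Matrix.fromBlocks_multiply]

theorem big_add (A B C D A' B' C' D' : M4) :
    big A B C D + big A' B' C' D' = big (A + A') (B + B') (C + C') (D + D') := by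
  rw [big, big, big, ← Matrix.fromBlocks_add]; rfl

theorem big_neg (A B C D : M4) : -big A B C D = big (-A) (-B) (-C) (-D) := by
  rw [big, big, ← Matrix.fromBlocks_neg]; rfl

theorem big_one : big (1 : M4) 0 0 1 = 1 := by
  rw [big, Matrix.fromBlocks_one, Matrix.submatrix_one_equiv]

theorem big_transpose (A B C D : M4) : (big A B C D)ᵀ = big Aᵀ Cᵀ Bᵀ Dᵀ := by
  rw [big, big, Matrix.transpose_submatrix, Matrix.fromBlocks_transpose]

theorem exists_big (M : M8) : ∃ A B C D, M = big A B C D :=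
  ⟨_, _, _, _, by rw [big, Matrix.fromBlocks_toBlocks (M.submatrix e8.symm e8.symm)]; ext i j; simp⟩

theorem big_inj {A B C D A' B' C' D' : M4} :
    big A B C D = big A' B' C' D' ↔ A = A' ∧ B = B' ∧ C = C' ∧ D = D' := by
  constructor
  · intro h
    refine Matrix.fromBlocks_inj.1 ?_
    ext i j
    have := congrFun (congrFun h (e8.symm i)) (e8.symm j)
    simpa [big] using this
  · rintro ⟨rfl, rfl, rfl, rfl⟩; rfl

theorem big_J : Matrix.J (Fin 4) F = big J4 0 0 J4 := by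
  have := SympBlocks.blk_J (F := F) (a := 2) (b := 2)
  rw [big, ← this]
  ext i j
  simp [SympBlocks.blk, e8]

theorem symp_iff {A B C D : M4} :
    (big A B C D)ᵀ * Matrix.J (Fin 4) F * big A B C D = Matrix.J (Fin 4) F ↔
      Aᵀ * J4 * A + Cᵀ * J4 * C = J4 ∧ Aᵀ * J4 * B + Cᵀ * J4 * D = 0 ∧
      Bᵀ * J4 * A + Dᵀ * J4 * C = 0 ∧ Bᵀ * J4 * B + Dᵀ * J4 * D = J4 := by
  rw [big_J, big_transpose, big_mul, big_mul, big_inj]
  simp

/-- The block diagonal embedding. -/
def emb : GL4 × GL4 →* GL8 where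
  toFun p := ⟨big p.1.1 0 0 p.2.1, big (p.1⁻¹).1 0 0 (p.2⁻¹).1, by simp [big_mul, big_one], by simp [big_mul, big_one]⟩
  map_one' := Units.ext big_one
  map_mul' p q := Units.ext (by
    show big (p.1 * q.1).1 0 0 (p.2 * q.2).1 = big p.1.1 0 0 p.2.1 * big q.1.1 0 0 q.2.1
    simp [big_mul])

theorem emb_val (a b : GL4) : (emb (a, b)).1 = big a.1 0 0 b.1 := rfl

theorem emb_mul (a b c d : GL4) : emb (a, b) * emb (c, d) = emb (a * c, b * d) := (map_mul emb (a, b) (c, d)).symm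

theorem emb_inv (a b : GL4) : (emb (a, b))⁻¹ = emb (a⁻¹, b⁻¹) := (map_inv emb (a, b)).symm

theorem emb_inj {a b c d : GL4} : emb (a, b) = emb (c, d) ↔ a = c ∧ b = d := by
  constructor
  · intro h
    have := big_inj.1 (congrArg Units.val h)
    exact ⟨Units.ext this.1, Units.ext this.2.2.2⟩
  · rintro ⟨rfl, rfl⟩; rfl

theorem emb_neg (a b : GL4) : emb (-a, -b) = -emb (a, b) := Units.ext (by simp [emb_val, big_neg])

theorem emb_one : emb (1, 1) = (1 : GL8) := map_one emb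

theorem emb_mem_iff {a b : GL4} :
    emb (a, b) ∈ Cfsg.spGL 4 F ↔ a ∈ Cfsg.spGL 2 F ∧ b ∈ Cfsg.spGL 2 F := by
  rw [mem_sp, emb_val, symp_iff, mem_sp, mem_sp]
  simp

/-- The diagonal embedding. -/
def diag : GL4 →* GL8 := emb.comp (MonoidHom.prod (MonoidHom.id _) (MonoidHom.id _))

theorem diag_eq (a : GL4) : diag a = emb (a, a) := rfl

/-- The standard first involution. -/
def Z0 : GL8 := emb ((1 : GL4), -1)

/-- The standard second involution. -/
def swp : GL8 :=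
  ⟨big 0 1 1 0, big 0 1 1 0, by simp [big_mul, big_one], by simp [big_mul, big_one]⟩

theorem swp_val : (swp : GL8).1 = big (0 : M4) 1 1 0 := rfl

theorem swp_sq : swp * swp = (1 : GL8) := Units.ext (by simp [swp_val, big_mul, big_one])

theorem Z0_val : (Z0 : GL8).1 = big (1 : M4) 0 0 (-1) := by simp [Z0, emb_val]

theorem Z0_sq : Z0 * Z0 = (1 : GL8) := by rw [Z0, emb_mul]; simp [emb_one]

theorem emb_comm_Z0 (a b : GL4) : emb (a, b) * Z0 = Z0 * emb (a, b) := by
  rw [Z0, emb_mul, emb_mul]; simp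

theorem swp_emb (a b : GL4) : swp * emb (a, b) = emb (b, a) * swp :=
  Units.ext (by simp [swp_val, emb_val, big_mul])

theorem swp_Z0 : swp * Z0 = -(Z0 * swp : GL8) := Units.ext (by simp [swp_val, Z0_val, big_mul, big_neg])

theorem swp_mem : (swp : GL8) ∈ Cfsg.spGL 4 F := by rw [mem_sp, swp_val, symp_iff]; simp

theorem Z0_mem : (Z0 : GL8) ∈ Cfsg.spGL 4 F := by
  rw [mem_sp, Z0_val, symp_iff]; simp

theorem plus_Z0 : plus (Z0 : GL8) = big ((2 : F) • (1 : M4)) 0 0 0 := by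
  rw [plus, Z0_val, ← big_one, big_add]; simp [two_smul]

theorem minus_Z0 : minus (Z0 : GL8) = big (0 : M4) 0 0 ((2 : F) • 1) := by
  rw [minus, Z0_val, sub_eq_add_neg, big_neg, ← big_one, big_add]; simp [two_smul]

theorem plus_swp : plus (swp : GL8) = big (1 : M4) 1 1 1 := by
  rw [plus, swp_val, ← big_one, big_add]; simp

theorem minus_swp : minus (swp : GL8) = big (1 : M4) (-1) (-1) 1 := by
  rw [minus, swp_val, sub_eq_add_neg, big_neg, ← big_one, big_add]; simp

theorem comm_Z0 (h2 : (2 : F) ≠ 0) {g : GL8} (h : g * Z0 = Z0 * g) : ∃ a b, g = emb (a, b) := by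
  have key : ∀ {k : GL8}, k * Z0 = Z0 * k → ∃ A D, k.1 = big A 0 0 D := fun {k} hk => by
    obtain ⟨A, B, C, D, hM⟩ := exists_big k.1
    have e := congrArg Units.val hk
    simp only [Units.val_mul, Z0_val, hM, big_mul, big_inj, Matrix.mul_neg, Matrix.neg_mul, Matrix.mul_one,
      Matrix.one_mul, Matrix.mul_zero, Matrix.zero_mul, add_zero, zero_add, neg_zero] at e
    have hB : B = 0 := by
      refine (smul_eq_zero.1 (show (2 : F) • B = 0 from ?_)).resolve_left h2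
      rw [two_smul]; nth_rw 2 [← e.2.1]; exact add_neg_cancel _
    have hC : C = 0 := by
      refine (smul_eq_zero.1 (show (2 : F) • C = 0 from ?_)).resolve_left h2
      rw [two_smul]; nth_rw 2 [e.2.2.1]; exact add_neg_cancel _
    exact ⟨A, D, by rw [hM, hB, hC]⟩
  obtain ⟨A, D, h1⟩ := key h
  obtain ⟨A', D', h1'⟩ := key (Commute.inv_left (show Commute g Z0 from h)).eq
  have e1 := g.mul_inv
  have e2 := g.inv_mul
  rw [h1, h1', big_mul, ← big_one, big_inj] at e1 e2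
  simp only [Matrix.mul_zero, add_zero, zero_add] at e1 e2
  exact ⟨⟨A, A', e1.1, e2.1⟩, ⟨D, D', e1.2.2.2, e2.2.2.2⟩, Units.ext h1⟩

/-- An involution of `Sp₈` anticommuting with a second one has eigenspaces of dimension four; the pair is
conjugate to the standard pair. -/
theorem exists_std (h2 : (2 : F) ≠ 0) {z w : GL8} (hz : z ∈ Cfsg.spGL 4 F) (hw : w ∈ Cfsg.spGL 4 F)
    (hzz : z * z = 1) (hww : w * w = 1) (hwz : w * z = -(z * w)) :
    ∃ g ∈ Cfsg.spGL 4 F, g * z * g⁻¹ = Z0 ∧ g * w * g⁻¹ = swp := by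
  classical
  let W : Submodule F (ι8 → F) := LinearMap.eqLocus (Matrix.toLin' z.1) LinearMap.id
  let W' : Submodule F (ι8 → F) := LinearMap.eqLocus (Matrix.toLin' z.1) (-LinearMap.id)
  have mW : ∀ {x}, x ∈ W ↔ z.1 *ᵥ x = x := fun {x} => Iff.rfl
  have mW' : ∀ {x}, x ∈ W' ↔ z.1 *ᵥ x = -x := fun {x} => Iff.rfl
  have hzz' : z.1 * z.1 = 1 := congrArg Units.val hzz
  have hwz' : w.1 * z.1 = -(z.1 * w.1) := congrArg Units.val hwz
  have hww' : w.1 * w.1 = 1 := congrArg Units.val hww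
  have hdis : W ⊓ W' = ⊥ := (Submodule.eq_bot_iff _).2 fun x ⟨h, h'⟩ => by
    have e : x = -x := (mW.1 h).symm.trans (mW'.1 h')
    exact (smul_eq_zero.1 (show (2 : F) • x = 0 by rw [two_smul]; exact add_eq_zero_iff_eq_neg.2 e)).resolve_left h2
  have hsup : W ⊔ W' = ⊤ := eq_top_iff.2 fun x _ => by
    rw [show x = (2 : F)⁻¹ • (x + z.1 *ᵥ x) + (2 : F)⁻¹ • (x - z.1 *ᵥ x) by
      rw [← smul_add, add_add_sub_cancel, ← two_smul F, inv_smul_smul₀ h2]]
    refine Submodule.add_mem_sup (W.smul_mem _ (mW.2 ?_)) (W'.smul_mem _ (mW'.2 ?_))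
    · rw [Matrix.mulVec_add, Matrix.mulVec_mulVec, hzz', Matrix.one_mulVec, add_comm]
    · rw [Matrix.mulVec_sub, Matrix.mulVec_mulVec, hzz', Matrix.one_mulVec, neg_sub]
  have hmap : W.map (Matrix.toLin' w.1) = W' := by
    ext x
    refine ⟨?_, fun hx => ⟨w.1 *ᵥ x, mW.2 ?_, ?_⟩⟩
    · rintro ⟨y, hy, rfl⟩
      refine mW'.2 ?_
      show z.1 *ᵥ (w.1 *ᵥ y) = -(w.1 *ᵥ y)
      rw [Matrix.mulVec_mulVec, show z.1 * w.1 = -(w.1 * z.1) by rw [hwz', neg_neg], Matrix.neg_mulVec,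
        ← Matrix.mulVec_mulVec, mW.1 hy]
    · rw [Matrix.mulVec_mulVec, show z.1 * w.1 = -(w.1 * z.1) by rw [hwz', neg_neg], Matrix.neg_mulVec,
        ← Matrix.mulVec_mulVec, mW'.1 hx, Matrix.mulVec_neg, neg_neg]
    · show w.1 *ᵥ (w.1 *ᵥ x) = x
      rw [Matrix.mulVec_mulVec, hww', Matrix.one_mulVec]
  have hinjw : Function.Injective (Matrix.toLin' w.1) := fun a b e => by
    have := congrArg (fun v => w.1 *ᵥ v) e
    simpa [Matrix.toLin'_apply, Matrix.mulVec_mulVec, hww'] using this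
  have hrk : Module.finrank F W = 2 * 2 := by
    have h1 := Submodule.finrank_sup_add_finrank_inf_eq W W'
    rw [hsup, hdis, finrank_top, finrank_bot, add_zero] at h1
    have h3 := (Submodule.equivMapOfInjective _ hinjw W).finrank_eq
    rw [hmap] at h3
    have h4 : Module.finrank F (ι8 → F) = 8 := by simp
    omega
  have hB : ∀ a b, SympGen.B (z.1 *ᵥ a) (z.1 *ᵥ b) = SympGen.B a b := fun a b => hz a b
  obtain ⟨g, hg⟩ := SympBlocks.exists_frame 2 4 (by norm_num) W hrk fun u hu hperp => by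
    by_contra hne
    obtain ⟨v, hv⟩ : ∃ v, SympGen.B u v ≠ 0 := by
      obtain ⟨y, hy, -⟩ := SympSimple.exists_both hne hne
      exact ⟨y, fun e => hy (by rw [SympGen.B_swap, e, neg_zero])⟩
    obtain ⟨a, ha, b, hb, rfl⟩ := Submodule.mem_sup.1 (hsup ▸ Submodule.mem_top : v ∈ W ⊔ W')
    refine hv ?_
    rw [SympGen.B_add_right, hperp a ha, zero_add]
    have e := hB u b
    rw [mW.1 hu, mW'.1 hb, show -b = (-1 : F) • b by rw [neg_one_smul], SympGen.B_smul_right] at e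
    exact (mul_eq_zero.1 (show (2 : F) * SympGen.B u b = 0 by linear_combination -e)).resolve_left h2
  let G : GL8 := (SympSimple.toSpGL g).1
  have hG : G ∈ Cfsg.spGL 4 F := (SympSimple.toSpGL g).2
  have hGv : G.1 = g.1 := rfl
  set z₁ := G⁻¹ * z * G with hz₁
  set w₁ := G⁻¹ * w * G with hw₁
  have hz₁S : z₁ ∈ Cfsg.spGL 4 F := mul_mem (mul_mem (inv_mem hG) hz) hG
  have hw₁S : w₁ ∈ Cfsg.spGL 4 F := mul_mem (mul_mem (inv_mem hG) hw) hG
  obtain ⟨A, B, C, D, hM⟩ := exists_big z₁.1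
  -- the first four coordinate vectors are fixed
  have hfix : ∀ i : ι4, z₁.1 *ᵥ Pi.single (e8.symm (Sum.inl i)) 1 = Pi.single (e8.symm (Sum.inl i)) 1 := fun i => by
    have hW : g.1 *ᵥ Pi.single (e8.symm (Sum.inl i)) 1 ∈ W := by
      rcases i with i | i
      · exact (hg _ (show ((finSumFinEquiv (Sum.inl i) : Fin (2 + 2)) : ℕ) < 2 by
          rw [finSumFinEquiv_apply_left]; exact i.2)).2
      · exact (hg _ (show ((finSumFinEquiv (Sum.inl i) : Fin (2 + 2)) : ℕ) < 2 by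
          rw [finSumFinEquiv_apply_left]; exact i.2)).1
    rw [hz₁, Units.val_mul, Units.val_mul, ← Matrix.mulVec_mulVec, ← Matrix.mulVec_mulVec, hGv, mW.1 hW,
      Matrix.mulVec_mulVec, ← hGv, Units.inv_mul, Matrix.one_mulVec]
  have hAC : A = 1 ∧ C = 0 := by
    constructor <;> ext i j
    · have := congrFun (hfix j) (e8.symm (Sum.inl i))
      rw [hM, Matrix.mulVec_single_one] at this
      simpa [big, Matrix.one_apply, Pi.single_apply] using this
    · have := congrFun (hfix j) (e8.symm (Sum.inr i))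
      rw [hM, Matrix.mulVec_single_one] at this
      simpa [big, Pi.single_apply] using this
  obtain ⟨rfl, rfl⟩ := hAC
  have hsz := (mem_sp _).1 hz₁S
  rw [hM, symp_iff] at hsz
  have hB0 : B = 0 := by
    have e := hsz.2.1
    rw [Matrix.transpose_zero, Matrix.zero_mul, Matrix.zero_mul, add_zero, Matrix.transpose_one, Matrix.one_mul] at e
    calc B = -(J4 * (J4 * B)) := by rw [← Matrix.mul_assoc, Matrix.J_squared, Matrix.neg_mul, Matrix.one_mul, neg_neg]
      _ = 0 := by rw [e]; simp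
  subst hB0
  obtain ⟨P, Q, R', S, hN⟩ := exists_big w₁.1
  have hwz₁ : w₁.1 * z₁.1 = -(z₁.1 * w₁.1) := by
    rw [← Units.val_mul, ← Units.val_mul, ← Units.val_neg]
    refine congrArg Units.val ?_
    rw [hw₁, hz₁, show G⁻¹ * w * G * (G⁻¹ * z * G) = G⁻¹ * (w * z) * G by group, hwz, mul_neg, neg_mul]
    congr 1
    group
  have hww₁ : w₁.1 * w₁.1 = 1 := by
    rw [← Units.val_mul, hw₁, show G⁻¹ * w * G * (G⁻¹ * w * G) = G⁻¹ * (w * w) * G by group, hww]
    simp
  rw [hM, hN, big_mul, big_mul, big_neg, big_inj] at hwz₁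
  simp only [Matrix.mul_one, Matrix.one_mul, Matrix.mul_zero, Matrix.zero_mul, add_zero, zero_add] at hwz₁
  obtain ⟨hP, hQD, hRD, -⟩ := hwz₁
  have hP0 : P = 0 :=
    (smul_eq_zero.1 (show (2 : F) • P = 0 by rw [two_smul]; exact add_eq_zero_iff_eq_neg.2 hP)).resolve_left h2
  subst hP0
  rw [hN, big_mul, ← big_one, big_inj] at hww₁
  simp only [Matrix.zero_mul, Matrix.mul_zero, zero_add, add_zero] at hww₁
  obtain ⟨hQR, hQS, hSR, -⟩ := hww₁
  have hRQ : R' * Q = 1 := mul_eq_one_comm.1 hQR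
  have hD : D = -1 := by
    calc D = R' * Q * D := by rw [hRQ, Matrix.one_mul]
      _ = -1 := by rw [Matrix.mul_assoc, hQD, Matrix.mul_neg, hRQ]
  have hS : S = 0 := by
    calc S = R' * Q * S := by rw [hRQ, Matrix.one_mul]
      _ = 0 := by rw [Matrix.mul_assoc, hQS, Matrix.mul_zero]
  subst hD; subst hS
  let q : GL4 := ⟨Q, R', hQR, hRQ⟩
  have hq : q ∈ Cfsg.spGL 2 F := by
    have := (mem_sp _).1 hw₁S
    rw [hN, symp_iff] at this
    rw [mem_sp]
    simpa using this.2.2.2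
  let T : GL8 := emb ((1 : GL4), q)
  have hT : T ∈ Cfsg.spGL 4 F := emb_mem_iff.2 ⟨one_mem _, hq⟩
  refine ⟨T * G⁻¹, mul_mem hT (inv_mem hG), ?_, ?_⟩
  · have e : z₁ = Z0 := Units.ext (by rw [hM, Z0_val])
    rw [show T * G⁻¹ * z * (T * G⁻¹)⁻¹ = T * z₁ * T⁻¹ by rw [hz₁]; group, e,
      show T * Z0 = Z0 * T from emb_comm_Z0 _ _]
    exact mul_inv_cancel_right _ _
  · rw [show T * G⁻¹ * w * (T * G⁻¹)⁻¹ = T * w₁ * T⁻¹ by rw [hw₁]; group]
    refine Units.ext ?_
    rw [Units.val_mul, Units.val_mul, hN, emb_inv, emb_val, emb_val, big_mul, big_mul, swp_val]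
    refine big_inj.2 ⟨?_, ?_, ?_, ?_⟩ <;> simp [q, hQR, hRQ]

end CfsgLib.MaxSub.Extra.SpEight
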