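import Cfsg.Agent.Lib.MaxSub.Extra.SpEight.Model
import Cfsg.Agent.Lib.MaxSub.Extra.SpEight.Axes

/-!
A group `2^(1+6)` of minus type containing the standard pair of involutions: its centraliser of the first one is made
from a group `2^(1+4)` of minus type in both blocks.
-/

set_option autoImplicit false

namespace CfsgLib.MaxSub.Extra.SpEight

open Matrix Subgroup

variable {F : Type*} [Field F]

local notation "M4" => Matrix (Fin 2 ⊕ Fin 2) (Fin 2 ⊕ Fin 2) F
local notation "GL4" => GL (Fin 2 ⊕ Fin 2) F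
local notation "GL8" => GL (Fin 4 ⊕ Fin 4) F

/-- A finite group mapped into itself by a conjugation is normalised. -/
theorem norm_of_conj_mem {G : Type*} [Group G] {R : Subgroup G} [Finite R] {g : G}
    (h : ∀ r ∈ R, g * r * g⁻¹ ∈ R) : g ∈ normalizer (R : Set G) := by
  set φ := (MulAut.conj g).toMonoidHom with hφ
  have hmap : R.map φ = R := Subgroup.eq_of_le_of_card_ge (by rintro _ ⟨x, hx, rfl⟩; exact h x hx)
    (le_of_eq (Nat.card_congr (R.equivMapOfInjective φ (MulAut.conj g).injective).toEquiv))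
  rw [Subgroup.mem_normalizer_iff]
  refine fun x => ⟨fun hx => h x hx, fun hx => ?_⟩
  obtain ⟨x', hx', e⟩ := (SetLike.ext_iff.1 hmap (g * x * g⁻¹)).2 hx
  rwa [← (MulAut.conj g).injective e]

/-- The group contains the standard pair of involutions. -/
structure Std (R : Subgroup (GL (Fin 4 ⊕ Fin 4) F)) : Prop where
  ext : Ext R
  le : R ≤ Cfsg.spGL 4 F
  card : Nat.card R = 128
  hZ : Z0 ∈ R
  hs : swp ∈ R

variable {R : Subgroup (GL (Fin 4 ⊕ Fin 4) F)}

/-- The group in one block. -/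
def side (R : Subgroup (GL (Fin 4 ⊕ Fin 4) F)) : Subgroup (GL (Fin 2 ⊕ Fin 2) F) := R.comap diag

theorem mem_side {e : GL4} : e ∈ side R ↔ emb (e, e) ∈ R := Iff.rfl

namespace Std

variable (S : Std R)
include S

theorem nonempty4 : Nonempty (Fin 2 ⊕ Fin 2) := inferInstance

theorem two : (2 : F) ≠ 0 := S.ext.two

theorem ne_neg4 (a : GL4) : a ≠ -a := fun h => a.ne_zero (by
  have e : (a : M4) = -(a : M4) := congrArg Units.val h
  have : (2 : F) • (a : M4) = 0 := by rw [two_smul]; exact add_eq_zero_iff_eq_neg.2 e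
  exact (smul_eq_zero.1 this).resolve_left S.two)

theorem emb_neg_right {e : GL4} (he : e ∈ side R) : emb (e, -e) ∈ R := by
  have := mul_mem (mem_side.1 he) S.hZ
  rwa [Z0, emb_mul, mul_one, mul_neg_one] at this

theorem cent_cases {r : GL8} (hr : r ∈ R) (hrz : r * Z0 = Z0 * r) :
    ∃ e ∈ side R, r = emb (e, e) ∨ r = emb (e, -e) := by
  obtain ⟨a, b, rfl⟩ := comm_Z0 S.two hrz
  rcases S.ext.comm _ hr swp S.hs with e | e
  · rw [swp_emb, mul_left_inj, emb_inj] at e
    obtain rfl := e.1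
    exact ⟨_, mem_side.2 hr, Or.inl rfl⟩
  · rw [swp_emb, ← neg_mul, mul_left_inj, ← emb_neg, emb_inj] at e
    obtain rfl := e.2
    refine ⟨a, mem_side.2 ?_, Or.inr rfl⟩
    have := mul_mem hr S.hZ
    rwa [Z0, emb_mul, mul_one, neg_mul_neg, mul_one] at this

theorem anti_cases {r : GL8} (hr : r ∈ R) (hrz : r * Z0 = -(Z0 * r)) :
    ∃ e ∈ side R, r = emb (e, e) * swp ∨ r = emb (e, -e) * swp := by
  obtain ⟨e, he, h⟩ := S.cent_cases (mul_mem hr S.hs) (by
    rw [mul_assoc, swp_Z0, mul_neg, ← mul_assoc, hrz, neg_mul, neg_neg, mul_assoc])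
  refine ⟨e, he, ?_⟩
  have hr' : r = r * swp * swp := by rw [mul_assoc, swp_sq, mul_one]
  rcases h with h | h
  · exact Or.inl (hr'.trans (by rw [h]))
  · exact Or.inr (hr'.trans (by rw [h]))

theorem induct {p : GL8 → Prop} (hdiag : ∀ e ∈ side R, p (emb (e, e))) (hz : p Z0) (hs : p swp)
    (hm : ∀ a b, p a → p b → p (a * b)) {r : GL8} (hr : r ∈ R) : p r := by
  have hneg : ∀ e ∈ side R, p (emb (e, -e)) := fun e he => by
    have := hm _ _ (hdiag e he) hz
    rwa [Z0, emb_mul, mul_one, mul_neg_one] at this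
  rcases S.ext.comm r hr Z0 S.hZ with e | e
  · obtain ⟨a, ha, rfl | rfl⟩ := S.cent_cases hr e
    exacts [hdiag a ha, hneg a ha]
  · obtain ⟨a, ha, rfl | rfl⟩ := S.anti_cases hr e
    exacts [hm _ _ (hdiag a ha) hs, hm _ _ (hneg a ha) hs]

theorem mem_norm {g : GL8} (hdiag : ∀ e ∈ side R, g * emb (e, e) * g⁻¹ ∈ R) (hz : g * Z0 * g⁻¹ ∈ R)
    (hs : g * swp * g⁻¹ ∈ R) : g ∈ normalizer (R : Set GL8) := by
  haveI := S.ext.fin
  refine norm_of_conj_mem fun r hr => S.induct (p := fun r => g * r * g⁻¹ ∈ R) hdiag hz hs (fun a b ha hb => ?_) hr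
  show g * (a * b) * g⁻¹ ∈ R
  rw [show g * (a * b) * g⁻¹ = (g * a * g⁻¹) * (g * b * g⁻¹) by group]
  exact mul_mem ha hb

theorem side_le : side R ≤ Cfsg.spGL 2 F := fun _ he => (emb_mem_iff.1 (S.le (mem_side.1 he))).1

theorem side_neg : -1 ∈ side R := by
  rw [mem_side, emb_neg, emb_one]
  exact S.ext.neg

theorem side_comm {a b : GL4} (ha : a ∈ side R) (hb : b ∈ side R) : a * b = b * a ∨ a * b = -(b * a) := by
  rcases S.ext.comm _ (mem_side.1 ha) _ (mem_side.1 hb) with e | e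
  · rw [emb_mul, emb_mul, emb_inj] at e; exact Or.inl e.1
  · rw [emb_mul, emb_mul, ← emb_neg, emb_inj] at e; exact Or.inr e.1

theorem side_sq {a : GL4} (ha : a ∈ side R) : a * a = 1 ∨ a * a = -1 := by
  rcases S.ext.sq _ (mem_side.1 ha) with e | e
  · rw [emb_mul, ← emb_one, emb_inj] at e; exact Or.inl e.1
  · rw [emb_mul, ← emb_one, ← emb_neg, emb_inj] at e; exact Or.inr e.1

theorem side_finite : Finite (side R) := by
  haveI := S.ext.fin
  exact Finite.of_injective (fun e : side R => (⟨emb (e.1, e.1), e.2⟩ : R))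
    fun a b h => Subtype.ext (emb_inj.1 (congrArg Subtype.val h)).1

theorem side_card : Nat.card (side R) = 32 := by
  classical
  haveI := S.side_finite
  let ψ : side R × Bool × Bool → R := fun x =>
    ⟨emb (x.1.1, x.1.1) * (if x.2.1 then Z0 else 1) * (if x.2.2 then swp else 1),
      mul_mem (mul_mem (mem_side.1 x.1.2) (by split_ifs <;> first | exact S.hZ | exact one_mem R))
        (by split_ifs <;> first | exact S.hs | exact one_mem R)⟩
  have neq : ∀ {u v : GL4}, u.1 = v.1 → u.1 = -v.1 → False := fun {u v} e e' =>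
    S.ne_neg4 v (Units.ext (by rw [Units.val_neg]; exact e.symm.trans e'))
  have hbij : Function.Bijective ψ := by
    constructor
    · intro x y h
      obtain ⟨a, i, j⟩ := x
      obtain ⟨b, i', j'⟩ := y
      have hv := congrArg (fun r : R => r.1.1) h
      cases i <;> cases i' <;> cases j <;> cases j' <;>
        simp only [ψ, Bool.false_eq_true, if_false, if_true, mul_one, Units.val_mul, emb_val, Z0_val, swp_val, big_mul,
          Matrix.mul_one, Matrix.mul_zero, Matrix.zero_mul, Matrix.mul_neg, add_zero, zero_add, neg_zero,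
          big_inj] at hv
      all_goals first
        | exact Prod.ext (Subtype.ext (Units.ext hv.1)) rfl
        | exact Prod.ext (Subtype.ext (Units.ext hv.2.1)) rfl
        | exact absurd hv.1 a.1.ne_zero
        | exact absurd hv.1.symm b.1.ne_zero
        | exact (neq hv.1 hv.2.2.2).elim
        | exact (neq hv.2.1 hv.2.2.1).elim
        | exact (neq hv.1.symm hv.2.2.2.symm).elim
        | exact (neq hv.2.1.symm hv.2.2.1.symm).elim
    · intro r
      rcases S.ext.comm r r.2 Z0 S.hZ with e | e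
      · obtain ⟨a, ha, h | h⟩ := S.cent_cases r.2 e
        · exact ⟨(⟨a, ha⟩, false, false), Subtype.ext (by simp [ψ, h])⟩
        · exact ⟨(⟨a, ha⟩, true, false), Subtype.ext (by simp [ψ, h, Z0, emb_mul])⟩
      · obtain ⟨a, ha, h | h⟩ := S.anti_cases r.2 e
        · exact ⟨(⟨a, ha⟩, false, true), Subtype.ext (by simp [ψ, h])⟩
        · exact ⟨(⟨a, ha⟩, true, true), Subtype.ext (by simp [ψ, h, Z0, emb_mul])⟩
  have := Nat.card_congr (Equiv.ofBijective ψ hbij)
  rw [S.card, Nat.card_prod, Nat.card_prod, show Nat.card Bool = 2 by simp] at this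
  omega

theorem side_irr (M : M4) (hM : ∀ e ∈ side R, M * (e : M4) = (e : M4) * M) : ∃ c : F, M = c • 1 := by
  obtain ⟨c, hc⟩ := S.ext.irr (big M 0 0 M) fun r hr =>
    S.induct (p := fun r => big M 0 0 M * r.1 = r.1 * big M 0 0 M)
      (fun e he => by simp [emb_val, big_mul, hM e he]) (by simp [Z0_val, big_mul]) (by simp [swp_val, big_mul])
      (fun a b ha hb => by
        show big M 0 0 M * (a * b).1 = (a * b).1 * big M 0 0 M
        rw [Units.val_mul, ← Matrix.mul_assoc, ha, Matrix.mul_assoc, hb, ← Matrix.mul_assoc]) hr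
  refine ⟨c, ?_⟩
  have hsm : c • (1 : Matrix (Fin 4 ⊕ Fin 4) (Fin 4 ⊕ Fin 4) F) = big (c • (1 : M4)) 0 0 (c • 1) := by
    rw [← big_one]
    ext i j
    simp only [big, Matrix.smul_apply, Matrix.submatrix_apply]
    rcases e8 i with x | x <;> rcases e8 j with y | y <;> simp
  rw [hsm, big_inj] at hc
  exact hc.1

theorem sys : PauliFour.Sys (side R) := by
  classical
  haveI := S.side_finite
  have hc2 : Nat.card (Subgroup.center (side R)) = 2 := by
    rw [Nat.card_eq_two_iff]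
    let m : side R := ⟨-1, S.side_neg⟩
    have hm : m ∈ Subgroup.center (side R) :=
      Subgroup.mem_center_iff.2 fun g => Subtype.ext (by simp [m, mul_neg, neg_mul])
    refine ⟨1, ⟨m, hm⟩, fun h => S.ne_neg4 1 (congrArg (fun w : Subgroup.center (side R) => w.1.1) h),
      Set.eq_univ_iff_forall.2 fun z => ?_⟩
    obtain ⟨c, hc⟩ := S.side_irr z.1.1.1 fun e he => (congrArg (fun w : side R => w.1.1)
      (Subgroup.mem_center_iff.1 z.2 ⟨e, he⟩)).symm
    rcases sp_scalar (S.side_le z.1.2) hc with e | e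
    · exact Or.inl (Subtype.ext (Subtype.ext e))
    · exact Or.inr (Subtype.ext (Subtype.ext e))
  refine ⟨S.two, by simp, S.side_irr, inferInstance, by rw [S.side_card, hc2], fun a ha b hb => S.side_comm ha hb,
    fun a ha b hb => ?_, fun a ha => ?_, S.side_neg⟩
  · rcases S.side_sq ha with e | e <;> rw [e] <;> simp
  · rw [pow_succ, pow_succ, pow_succ, pow_one, mul_assoc (a * a)]
    rcases S.side_sq ha with e | e <;> rw [e] <;> simp

theorem side_minus : Cfsg.Geo.IsOfMinusType 2 (side R) := by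
  intro A hA hinv
  classical
  haveI := S.side_finite
  haveI := S.ext.fin
  let C : Subgroup GL8 :=
    { carrier := {r | ∃ a ∈ A, r = emb ((a : GL4), (a : GL4)) ∨ r = emb ((a : GL4), -(a : GL4))}
      one_mem' := ⟨1, one_mem A, Or.inl emb_one.symm⟩
      mul_mem' := fun {r s} hr hs => by
        obtain ⟨a, ha, rfl | rfl⟩ := hr <;> obtain ⟨b, hb, rfl | rfl⟩ := hs <;>
          refine ⟨a * b, mul_mem ha hb, ?_⟩ <;> simp [emb_mul]
      inv_mem' := fun {r} hr => by
        obtain ⟨a, ha, rfl | rfl⟩ := hr <;> refine ⟨a⁻¹, inv_mem ha, ?_⟩ <;> simp [emb_inv] }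
  have hCR : C ≤ R := by
    rintro r ⟨a, -, rfl | rfl⟩
    exacts [mem_side.1 a.2, S.emb_neg_right a.2]
  have hsq : ∀ a ∈ A, (a : GL4) * a = 1 := fun a ha => congrArg Subtype.val (hinv a ha)
  have h16 := S.ext.elem C hCR (by
    rintro r ⟨a, ha, rfl | rfl⟩ <;> simp [emb_mul, hsq a ha, emb_one])
  let φ : A × Bool → C := fun x =>
    ⟨emb ((x.1.1 : GL4), if x.2 then -(x.1.1 : GL4) else (x.1.1 : GL4)), x.1.1, x.1.2, by cases x.2 <;> simp⟩
  haveI : Finite C := Finite.of_injective _ (inclusion_injective hCR)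
  have hφ : Function.Injective φ := fun x y h => by
    obtain ⟨a, i⟩ := x
    obtain ⟨b, j⟩ := y
    obtain ⟨h1, h2⟩ := emb_inj.1 (congrArg Subtype.val h)
    obtain rfl : a = b := Subtype.ext (Subtype.ext h1)
    cases i <;> cases j <;> simp only [Bool.false_eq_true, if_false, if_true] at h2
    · rfl
    · exact absurd h2 (S.ne_neg4 _)
    · exact absurd h2.symm (S.ne_neg4 _)
    · rfl
  have := Nat.card_le_card_of_injective φ hφ
  rw [Nat.card_prod, show Nat.card Bool = 2 by simp] at this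
  rw [S.card] at h16
  omega

theorem exists_frame : Nonempty (PauliFour.Frame (side R)) :=
  S.sys.exists_frame (Or.inr fun A hA hA' => by simpa using S.side_minus A hA hA')

theorem diag_norm {s : GL4} (hs : s ∈ normalizer (side R : Set GL4)) :
    emb (s, s) ∈ normalizer (R : Set GL8) := by
  refine S.mem_norm (fun e he => ?_) ?_ ?_
  · rw [emb_mul, emb_inv, emb_mul]
    exact mem_side.1 ((Subgroup.mem_normalizer_iff.1 hs e).1 he)
  · rw [emb_comm_Z0, mul_inv_cancel_right]; exact S.hZ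
  · rw [← swp_emb, mul_inv_cancel_right]; exact S.hs

/-- The elements trivial on one eigenspace. -/
theorem root {g : GL8} (hg : g ∈ R) (hgz : g * Z0 = Z0 * g) :
    ∃ x ∈ normalizer (R : Set GL8), x ∈ Cfsg.spGL 4 F ∧ x * Z0 = Z0 * x ∧
      x.1 * plus Z0 = g.1 * plus Z0 ∧ x.1 * minus Z0 = minus Z0 := by
  obtain ⟨e, he, hge⟩ := S.cent_cases hg hgz
  refine ⟨emb (e, 1), S.mem_norm (fun a ha => ?_) ?_ ?_, emb_mem_iff.2 ⟨S.side_le he, one_mem _⟩,
    emb_comm_Z0 _ _, ?_, ?_⟩
  · rw [emb_mul, emb_inv, emb_mul]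
    rcases S.side_comm he ha with h | h <;> rw [h]
    · simpa using mem_side.1 ha
    · rw [neg_mul, mul_inv_cancel_right, inv_one, one_mul, mul_one, ← neg_neg (emb (-a, a)), ← emb_neg, neg_neg,
        ← neg_one_mul]
      exact mul_mem S.ext.neg (S.emb_neg_right ha)
  · rw [emb_comm_Z0, mul_inv_cancel_right]; exact S.hZ
  · rw [mul_assoc, emb_inv, swp_emb, ← mul_assoc, emb_mul, inv_one, mul_one, one_mul]
    refine mul_mem ?_ S.hs
    rcases S.side_sq he with h | h
    · rw [show e⁻¹ = e from inv_eq_of_mul_eq_one_right h]; exact mem_side.1 he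
    · rw [show e⁻¹ = -e from inv_eq_of_mul_eq_one_right (by rw [mul_neg, h, neg_neg])]
      exact S.emb_neg_right he
  · rw [plus_Z0, emb_val]
    rcases hge with rfl | rfl <;> simp [emb_val, big_mul]
  · rw [minus_Z0, emb_val]
    simp [big_mul]

theorem side_norm {a b : GL4} (h : emb (a, b) ∈ normalizer (R : Set GL8)) :
    a ∈ normalizer (side R : Set GL4) := by
  haveI := S.side_finite
  refine norm_of_conj_mem fun e he => ?_
  have hm : emb (a * e * a⁻¹, b * e * b⁻¹) ∈ R := by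
    have := (Subgroup.mem_normalizer_iff.1 h _).1 (mem_side.1 he)
    rwa [emb_mul, emb_inv, emb_mul] at this
  obtain ⟨d, hd, h' | h'⟩ := S.cent_cases hm (emb_comm_Z0 _ _) <;>
  · rw [(emb_inj.1 h').1]; exact hd

/-- An involution of the normaliser commuting with `Z0` centralises two anticommuting elements of one block. -/
theorem pair {z' : GL8} (hz' : z' ∈ normalizer (R : Set GL8)) (hS : z' ∈ Cfsg.spGL 4 F) (h1 : z' * z' = 1)
    (hc : z' * Z0 = Z0 * z') :
    ∃ g₁ ∈ R, ∃ g₂ ∈ R, g₁ * Z0 = Z0 * g₁ ∧ g₂ * Z0 = Z0 * g₂ ∧ g₁ * g₂ = -(g₂ * g₁) ∧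
      g₁.1 * z'.1 * plus Z0 = z'.1 * g₁.1 * plus Z0 ∧ g₂.1 * z'.1 * plus Z0 = z'.1 * g₂.1 * plus Z0 := by
  obtain ⟨a, b, rfl⟩ := comm_Z0 S.two hc
  rw [emb_mul, ← emb_one, emb_inj] at h1
  obtain ⟨f⟩ := S.exists_frame
  obtain ⟨e₁, he₁, e₂, he₂, hanti, c₁, c₂⟩ :=
    exists_pair S.sys S.side_le f (emb_mem_iff.1 hS).1 (S.side_norm hz') h1.1
  refine ⟨_, mem_side.1 he₁, _, mem_side.1 he₂, emb_comm_Z0 _ _, emb_comm_Z0 _ _, ?_, ?_, ?_⟩
  · rw [emb_mul, emb_mul, ← emb_neg, hanti]
  · have e : e₁.1 * a.1 = a.1 * e₁.1 := congrArg Units.val c₁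
    rw [plus_Z0]; simp [emb_val, big_mul, e]
  · have e : e₂.1 * a.1 = a.1 * e₂.1 := congrArg Units.val c₂
    rw [plus_Z0]; simp [emb_val, big_mul, e]

end Std

end CfsgLib.MaxSub.Extra.SpEight
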